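import Groth.Agent.H7.Stk.Psh
import Mathlib.CategoryTheory.Sites.Over

/-! Stacks detected by base change to slices. -/

set_option autoImplicit false
set_option backward.isDefEq.respectTransparency false
set_option backward.isDefEq.respectTransparency.types false

universe v₂ v₃ v₄ u₂ u₃ u₄ v u

open CategoryTheory CategoryTheory.Functor FibCat
open Groth.Agent.LeadFibCat

namespace Groth.Agent.H7.Stk.Glue

variable {C : Type u} [Category.{v} C] {J : GrothendieckTopology C}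

theorem stack_of_base {𝒮 𝒯 : BasedCategory.{v, max u v} C} (h𝒮 : IsFibGrpd 𝒮.p)
    (h𝒯 : _root_.Stk.IsStack J 𝒯) (F : 𝒮 ⥤ᵇ 𝒯)
    (hfaith : ∀ {a b : 𝒮.obj} (φ φ' : a ⟶ b), F.map φ = F.map φ' → φ = φ')
    (h3 : ∀ (U : C) (y : overCat U ⥤ᵇ 𝒯),
      _root_.Stk.IsStack (J.over U) (BasedCategory.ofFunctor ((fpFst y F).toFunctor : (fp y F).obj ⥤ Over U))) :
    _root_.Stk.IsStack J 𝒮 := by
  rw [stack_iff] at h𝒯 ⊢
  refine ⟨h𝒮, fun U R hR => ?_⟩
  let o : Over U := Over.mk (𝟙 U)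
  let T : Sieve o := (Sieve.overEquiv o).symm R
  have hT : T ∈ J.over U o := J.overEquiv_symm_mem_over o R hR
  have hTm : ∀ {u : Over U} (g : u ⟶ o), T g ↔ R g.left := fun g => Sieve.overEquiv_symm_iff R g
  constructor
  · intro x x' hx hx' M hM hMn
    obtain ⟨θ₀, ⟨hv₀, hθ₀⟩, hu₀⟩ := img_glue h𝒮 h𝒯.1 (h𝒯.2 R hR).1 F x (F.obj x') hx
      ((pobj F x').trans hx') (fun z φ h => F.map (M φ h)) (fun z φ h => by rw [pmap, hM]; simp)
      (fun z z' χ φ h h' => by rw [hMn χ φ h h', Functor.map_comp])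
    obtain ⟨G, e, he⟩ := over_ess h𝒯.1 (F.obj x) ((pobj F x).trans hx)
    haveI : IsIso θ₀ := isIso_of_vert h𝒯.1 hv₀
    let P : (fp G F).obj := fpMk o x e he
    let P' : (fp G F).obj := fpMk o x' (e ≪≫ asIso θ₀) (he.comp hv₀)
    have mem : ∀ ⦃Q : (fp G F).obj⦄ (φ : Q ⟶ P), T (φ.hom.fst ≫ eqToHom rfl) →
        R (𝒮.p.map φ.hom.snd ≫ eqToHom hx) := by
      intro Q φ h
      rw [hTm] at h
      rw [snd_map φ, show (overCat U).p.map φ.hom.fst = φ.hom.fst.left from rfl]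
      simpa [P, o] using R.downward_closed h (eqToHom (fp_snd_obj Q))
    have memw : ∀ ⦃Q : (fp G F).obj⦄ (φ : Q ⟶ P) (h : T (φ.hom.fst ≫ eqToHom rfl)),
        G.map φ.hom.fst ≫ e.hom ≫ θ₀ = Q.obj.iso.hom ≫ F.map (M φ.hom.snd (mem φ h)) := by
      intro Q φ h
      rw [← hθ₀ φ.hom.snd (mem φ h), ← Category.assoc, ← Category.assoc]
      exact congrArg (· ≫ θ₀) φ.hom.w
    have hBC := (((stack_iff (J.over U)).1 (h3 U G)).2 T hT).1
    obtain ⟨Θ, ⟨⟨hΘo, hΘm⟩, -⟩, -⟩ := hBC P P' rfl rfl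
      (fun Q φ h => (fpHom φ.hom.fst (M φ.hom.snd (mem φ h)) (memw φ h) : Q ⟶ P'))
      (fun Q φ h => (Category.comp_id _).symm)
      (fun Q Q' χ φ h h' => fp_ext (comp_fst χ φ) (by
        show M ((χ ≫ φ).hom.snd) _ = χ.hom.snd ≫ M φ.hom.snd (mem φ h)
        exact hMn χ.hom.snd φ.hom.snd (mem φ h) _))
    change Θ.hom.fst = 𝟙 o at hΘm
    have hFθ : F.map Θ.hom.snd = θ₀ := by
      have e1 : G.map Θ.hom.fst = 𝟙 (G.obj o) := (congrArg (fun k => G.map k) hΘm).trans (G.toFunctor.map_id o)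
      have e2 : e.hom ≫ θ₀ = e.hom ≫ F.map Θ.hom.snd :=
        ((congrArg (· ≫ (e.hom ≫ θ₀)) e1).trans (Category.id_comp _)).symm.trans Θ.hom.w
      exact ((cancel_epi e.hom).1 e2).symm
    refine ⟨Θ.hom.snd, ⟨Vert.reflect (F := F) (hFθ.symm ▸ hv₀), fun z φ h => hfaith _ _ ?_⟩,
      fun θ' ⟨hv', hθ'⟩ => hfaith _ _ ?_⟩
    · rw [Functor.map_comp, hFθ, hθ₀ φ h]
    · rw [hFθ]
      refine hu₀ _ ⟨hv'.map, fun z φ h => ?_⟩
      show F.map φ ≫ F.map θ' = F.map (M φ h)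
      rw [← Functor.map_comp, hθ' φ h]
  · intro H
    obtain ⟨c⟩ := (h𝒯.2 R hR).2 (BasedFunctor.comp H F)
    obtain ⟨G, e, he⟩ := over_ess h𝒯.1 c.pt c.over
    have hlo : ∀ b : (_root_.Stk.sieveCat T).obj, R b.obj.left.hom := fun b => by
      have h1 : R b.obj.hom.left := (hTm b.obj.hom).1 b.property
      have h2 : b.obj.hom.left ≫ 𝟙 U = b.obj.left.hom := Over.w b.obj.hom
      exact ((Category.comp_id _).symm.trans h2) ▸ h1
    let lo : (_root_.Stk.sieveCat T).obj → (_root_.Stk.sieveCat R).obj := fun b => ⟨b.obj.left, hlo b⟩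
    let lm : ∀ {a b : (_root_.Stk.sieveCat T).obj}, (a ⟶ b) → (lo a ⟶ lo b) := fun {a b} m =>
      ObjectProperty.homMk m.hom.left
    have ki : ∀ a : (_root_.Stk.sieveCat R).obj, ∃ i : G.obj a.obj ⟶ F.obj (H.obj a), Vert 𝒯.p i ∧
        i ≫ c.map a = G.map (toT a.obj) ≫ e.hom := by
      intro a
      obtain ⟨i, h1, h2⟩ := sc_exists (h𝒯.1.isStronglyCartesian (c.map a)) (G.map (toT a.obj) ≫ e.hom)
        (eqToHom ((pobj G a.obj).trans (pobj (BasedFunctor.comp H F) a).symm))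
        (by rw [c.proj, Functor.map_comp, pmap_toT, he.map_eq]; simp)
      exact ⟨i, ⟨_, h1⟩, h2⟩
    choose i hi hi' using ki
    haveI : ∀ a, IsIso (i a) := fun a => isIso_of_vert h𝒯.1 (hi a)
    have hin : ∀ {a b : (_root_.Stk.sieveCat R).obj} (m : a ⟶ b),
        G.map m.hom ≫ i b = i a ≫ F.map (H.map m) := by
      intro a b m
      refine sc_ext (h𝒯.1.isStronglyCartesian (c.map b)) ?_ ?_
      · rw [Functor.map_comp, Functor.map_comp, (hi a).map_eq, (hi b).map_eq, pmap, pmap F, pmap H,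
          show (overCat U).p.map m.hom = (_root_.Stk.sieveCat R).p.map m from rfl]
        simp
      · rw [Category.assoc, hi', Category.assoc, show F.map (H.map m) ≫ c.map b = c.map a from c.natural m, hi',
          ← Category.assoc, map_toT]
    let K : (_root_.Stk.sieveCat T).obj ⥤ (fp G F).obj :=
      { obj := fun b => fpMk b.obj.left (H.obj (lo b)) (asIso (i (lo b))) (hi (lo b))
        map := fun m => fpHom m.hom.left (H.map (lm m)) (hin (lm m))
        map_id := fun b => fp_ext rfl (H.toFunctor.map_id (lo b))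
        map_comp := fun m n => fp_ext rfl (by
          show H.map (lm m ≫ lm n) = H.map (lm m) ≫ H.map (lm n)
          exact H.toFunctor.map_comp _ _) }
    let H' : _root_.Stk.sieveCat T ⥤ᵇ BasedCategory.ofFunctor ((fpFst G F).toFunctor) :=
      { toFunctor := K, w := rfl }
    obtain ⟨c'⟩ := (((stack_iff (J.over U)).1 (h3 U G)).2 T hT).2 H'
    have hover : c'.pt.obj.fst = o := c'.over
    let bb : (_root_.Stk.sieveCat R).obj → (_root_.Stk.sieveCat T).obj := fun a =>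
      ⟨Over.mk (toT a.obj : a.obj ⟶ o), (hTm _).2 a.property⟩
    refine ⟨⟨c'.pt.obj.snd, (fp_snd_obj c'.pt).trans (congrArg (fun u : Over U => u.left) hover),
      fun a => (c'.map (bb a)).hom.snd, fun a => ?_, fun {a b} m => ?_⟩⟩
    · have h1 : (c'.map (bb a)).hom.fst = eqToHom (pobj H' (bb a)) ≫ (bb a).obj.hom ≫ eqToHom c'.over.symm :=
        c'.proj (bb a)
      rw [snd_map, show (overCat U).p.map (c'.map (bb a)).hom.fst = (c'.map (bb a)).hom.fst.left from rfl, h1]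
      simp [bb, o]
    · let n : bb a ⟶ bb b := ObjectProperty.homMk (Over.homMk m.hom (toT_comp m.hom))
      exact congrArg (fun k => k.hom.snd) (c'.natural n)

end Groth.Agent.H7.Stk.Glue
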