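import Groth.Agent.H7.Stk.Local
import Groth.Agent.Lead.FibCat.Rep
import Groth.Agent.Lead.FibCat.Setoid

/-! Fibre products: changes of the factors with control of the projection; presheaves of setoids. -/

set_option autoImplicit false
set_option backward.isDefEq.respectTransparency false
set_option backward.isDefEq.respectTransparency.types false

universe w v₂ v₃ v₄ v₅ v₆ v₇ u₂ u₃ u₄ u₅ u₆ u₇ v u

open CategoryTheory CategoryTheory.Limits CategoryTheory.Functor FibCat Opposite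
open Groth.Agent.LeadFibCat

namespace Groth.Agent.H7.Stk.Congr

variable {C : Type u} [Category.{v} C]

section Transport

variable {𝒳 : BasedCategory.{v₂, u₂} C} {𝒴 : BasedCategory.{v₃, u₃} C} {𝒲 : BasedCategory.{v₄, u₄} C}
  {𝒳' : BasedCategory.{v₅, u₅} C} {𝒴' : BasedCategory.{v₆, u₆} C} {𝒲' : BasedCategory.{v₇, u₇} C}

/-- fibre products are invariant under equivalences, compatibly with the first projection -/
theorem transport_fst (G : 𝒲 ⥤ᵇ 𝒴) (f : 𝒳 ⥤ᵇ 𝒴) (G' : 𝒲' ⥤ᵇ 𝒴') (f' : 𝒳' ⥤ᵇ 𝒴')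
    (c : 𝒲' ⥤ᵇ 𝒲) (a : 𝒳' ⥤ᵇ 𝒳) (b : 𝒴' ⥤ᵇ 𝒴) (hc : IsEquivOver c) (ha : IsEquivOver a)
    (hb1 : ∀ {p q : 𝒴'.obj} (ψ : b.obj p ⟶ b.obj q), ∃ φ, b.map φ = ψ)
    (hb2 : ∀ {p q : 𝒴'.obj} (φ φ' : p ⟶ q), b.map φ = b.map φ' → φ = φ')
    (α : BasedFunctor.comp G' b ≅ BasedFunctor.comp c G)
    (β : BasedFunctor.comp f' b ≅ BasedFunctor.comp a f) :
    ∃ Φ : fp G' f' ⥤ᵇ fp G f, IsEquivOver Φ ∧
      BasedFunctor.comp Φ (fpFst G f) = BasedFunctor.comp (fpFst G' f') c ∧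
      BasedFunctor.comp Φ (fpSnd G f) = BasedFunctor.comp (fpSnd G' f') a := by
  obtain ⟨c1, c2, c3⟩ := equiv_props hc
  obtain ⟨a1, a2, a3⟩ := equiv_props ha
  haveI : b.toFunctor.Faithful := ⟨fun {_ _ φ φ'} h => hb2 φ φ' h⟩
  haveI : b.toFunctor.Full := ⟨fun {_ _} => hb1⟩
  let Φ : fp G' f' ⥤ᵇ fp G f :=
    lift' (BasedFunctor.comp (fpFst G' f') c) (BasedFunctor.comp (fpSnd G' f') a)
      (fun w => (app α w.obj.fst).symm ≪≫ b.toFunctor.mapIso w.obj.iso ≪≫ app β w.obj.snd)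
      (fun {w w'} g => by
        have h1 := app_naturality α g.hom.fst
        have h2 := app_naturality β g.hom.snd
        have h3 := congrArg b.map g.hom.w
        rw [Functor.map_comp, Functor.map_comp] at h3
        simp only [Iso.trans_hom, Iso.symm_hom, Functor.mapIso_hom, Category.assoc]
        rw [← cancel_epi (app α w.obj.fst).hom, ← Category.assoc, Iso.hom_inv_id_assoc]
        show ((app α w.obj.fst).hom ≫ G.map (c.map g.hom.fst)) ≫ _ = _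
        rw [show (app α w.obj.fst).hom ≫ G.map (c.map g.hom.fst) = b.map (G'.map g.hom.fst) ≫ (app α w'.obj.fst).hom
          from h1.symm]
        simp only [Category.assoc, Iso.hom_inv_id_assoc]
        rw [reassoc_of% h3]
        exact congrArg _ h2)
      (fun w => ((vert_app α w.obj.fst).symm).comp (((fp_vert w).map).comp (vert_app β w.obj.snd)))
  refine ⟨Φ, isEquivOver_mk Φ (fun {w w'} ψ => ?_) (fun {w w'} φ φ' h => ?_) (fun η => ?_), rfl, rfl⟩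
  · obtain ⟨p, hp⟩ := c1 ψ.hom.fst
    obtain ⟨q, hq⟩ := a1 ψ.hom.snd
    refine ⟨fpHom p q (hb2 _ _ ?_), fp_ext hp hq⟩
    have h1 := app_naturality α p
    have h2 := app_naturality β q
    have h3 : G.map ψ.hom.fst ≫ (app α w'.obj.fst).inv ≫ b.map w'.obj.iso.hom ≫ (app β w'.obj.snd).hom =
        ((app α w.obj.fst).inv ≫ b.map w.obj.iso.hom ≫ (app β w.obj.snd).hom) ≫ f.map ψ.hom.snd := ψ.hom.w
    rw [← hp, ← hq] at h3
    rw [Functor.map_comp, Functor.map_comp, ← cancel_mono (app β w'.obj.snd).hom]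
    simp only [Category.assoc] at h3 ⊢
    rw [show b.map (f'.map q) ≫ (app β w'.obj.snd).hom = (app β w.obj.snd).hom ≫ f.map (a.map q) from h2]
    rw [← cancel_epi (app α w.obj.fst).inv, ← h3]
    have h1' : (app α w.obj.fst).inv ≫ b.map (G'.map p) = G.map (c.map p) ≫ (app α w'.obj.fst).inv := by
      rw [Iso.inv_comp_eq, ← Category.assoc, Iso.eq_comp_inv]; exact h1
    exact (reassoc_of% h1') _
  · exact fp_ext (c2 _ _ (congrArg (fun m => m.hom.fst) h)) (a2 _ _ (congrArg (fun m => m.hom.snd) h))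
  · obtain ⟨p, ep, hep⟩ := c3 η.obj.fst
    obtain ⟨q, eq', heq⟩ := a3 η.obj.snd
    let i : b.obj (G'.obj p) ≅ b.obj (f'.obj q) :=
      app α p ≪≫ G.toFunctor.mapIso ep ≪≫ η.obj.iso ≪≫ (f.toFunctor.mapIso eq').symm ≪≫ (app β q).symm
    have hi : Vert 𝒴.p i.hom :=
      (vert_app α p).comp ((hep.map (F := G)).comp ((fp_vert η).comp
        ((Vert.symm (e := f.toFunctor.mapIso eq') (heq.map (F := f))).comp (vert_app β q).symm)))
    let i' : G'.obj p ≅ f'.obj q := b.toFunctor.preimageIso i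
    have hi' : b.map i'.hom = i.hom := b.toFunctor.map_preimage i.hom
    refine ⟨fpMk p q i' (Vert.reflect (F := b) (by rw [hi']; exact hi)), fpIsoMk ep eq' ?_, hep⟩
    show G.map ep.hom ≫ η.obj.iso.hom = ((app α p).inv ≫ b.map i'.hom ≫ (app β q).hom) ≫ f.map eq'.hom
    rw [hi']
    exact (aux_cancel (app α p) (G.map ep.hom) η.obj.iso.hom (f.toFunctor.mapIso eq') (app β q)).symm

theorem id_ff (𝒵 : BasedCategory.{v₃, u₃} C) :
    (∀ {p q : 𝒵.obj} (ψ : (BasedFunctor.id 𝒵).obj p ⟶ (BasedFunctor.id 𝒵).obj q), ∃ φ, (BasedFunctor.id 𝒵).map φ = ψ) ∧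
    ∀ {p q : 𝒵.obj} (φ φ' : p ⟶ q), (BasedFunctor.id 𝒵).map φ = (BasedFunctor.id 𝒵).map φ' → φ = φ' :=
  ⟨fun ψ => ⟨ψ, rfl⟩, fun _ _ h => h⟩

/-- change of the first factor along an equivalence -/
theorem change_fst (G : 𝒲 ⥤ᵇ 𝒴) (f : 𝒳 ⥤ᵇ 𝒴) (c : 𝒲' ⥤ᵇ 𝒲) (hc : IsEquivOver c) :
    ∃ Φ : fp (BasedFunctor.comp c G) f ⥤ᵇ fp G f, IsEquivOver Φ ∧
      BasedFunctor.comp Φ (fpFst G f) = BasedFunctor.comp (fpFst (BasedFunctor.comp c G) f) c ∧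
      BasedFunctor.comp Φ (fpSnd G f) = fpSnd (BasedFunctor.comp c G) f :=
  transport_fst G f (BasedFunctor.comp c G) f c (BasedFunctor.id _) (BasedFunctor.id _) hc (equiv_id _)
    (id_ff _).1 (id_ff _).2 (Iso.refl _) (Iso.refl _)

end Transport

section PasteFst

variable {𝒳 : BasedCategory.{v₂, u₂} C} {𝒴 : BasedCategory.{v₃, u₃} C} {𝒲 : BasedCategory.{v₄, u₄} C}
  {𝒱 : BasedCategory.{v₅, u₅} C}

/-- base change of the first projection, compatibly with the projection -/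
theorem paste_fst' (G : 𝒲 ⥤ᵇ 𝒱) (g : 𝒱 ⥤ᵇ 𝒴) (f : 𝒳 ⥤ᵇ 𝒴) :
    ∃ Φ : fp (BasedFunctor.comp G g) f ⥤ᵇ fp G (fpFst g f), IsEquivOver Φ ∧
      BasedFunctor.comp Φ (fpFst G (fpFst g f)) = fpFst (BasedFunctor.comp G g) f := by
  let b : fp (BasedFunctor.comp G g) f ⥤ᵇ fp g f :=
    lift' (BasedFunctor.comp (fpFst _ f) G) (fpSnd _ f) (fun w => w.obj.iso) (fun φ => φ.hom.w) (fun w => fp_vert w)
  let Φ : fp (BasedFunctor.comp G g) f ⥤ᵇ fp G (fpFst g f) :=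
    lift' (fpFst _ f) b (fun w => Iso.refl _)
      (fun φ => by exact (Category.comp_id _).trans (Category.id_comp _).symm) (fun w => Vert.id _)
  refine ⟨Φ, isEquivOver_mk Φ (fun {w w'} ψ => ?_) (fun {w w'} φ φ' h => ?_) (fun η => ?_), rfl⟩
  · have h : G.map ψ.hom.fst ≫ 𝟙 _ = 𝟙 _ ≫ ψ.hom.snd.hom.fst := ψ.hom.w
    rw [Category.id_comp, Category.comp_id] at h
    refine ⟨fpHom ψ.hom.fst ψ.hom.snd.hom.snd ?_, fp_ext rfl (fp_ext h rfl)⟩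
    show g.map (G.map ψ.hom.fst) ≫ w'.obj.iso.hom = w.obj.iso.hom ≫ f.map ψ.hom.snd.hom.snd
    rw [h]
    exact ψ.hom.snd.hom.w
  · exact fp_ext (congrArg (fun m => m.hom.fst) h) (congrArg (fun m => m.hom.snd.hom.snd) h)
  · refine ⟨fpMk η.obj.fst η.obj.snd.obj.snd (g.toFunctor.mapIso η.obj.iso ≪≫ η.obj.snd.obj.iso)
      ((fp_vert η).map.comp (fp_vert η.obj.snd)),
      fpIsoMk (Iso.refl η.obj.fst) (fpIsoMk η.obj.iso (Iso.refl η.obj.snd.obj.snd) ?_) ?_, Vert.id (p := 𝒲.p) _⟩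
    · show g.map η.obj.iso.hom ≫ η.obj.snd.obj.iso.hom =
        (g.map η.obj.iso.hom ≫ η.obj.snd.obj.iso.hom) ≫ f.map (𝟙 _)
      erw [f.toFunctor.map_id]; exact (Category.comp_id _).symm
    · show G.map (𝟙 _) ≫ η.obj.iso.hom = 𝟙 _ ≫ η.obj.iso.hom
      erw [G.toFunctor.map_id]

/-- exchange of the factors -/
theorem swap (G : 𝒲 ⥤ᵇ 𝒴) (f : 𝒳 ⥤ᵇ 𝒴) : ∃ Φ : fp f G ⥤ᵇ fp G f, IsEquivOver Φ ∧
    BasedFunctor.comp Φ (fpFst G f) = fpSnd f G ∧ BasedFunctor.comp Φ (fpSnd G f) = fpFst f G := by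
  let Φ : fp f G ⥤ᵇ fp G f :=
    lift' (fpSnd f G) (fpFst f G) (fun w => w.obj.iso.symm)
      (fun {w w'} φ => by
        show G.map φ.hom.snd ≫ w'.obj.iso.inv = w.obj.iso.inv ≫ f.map φ.hom.fst
        rw [Iso.eq_inv_comp, ← Category.assoc, Iso.comp_inv_eq]
        exact φ.hom.w.symm)
      (fun w => (fp_vert w).symm)
  refine ⟨Φ, isEquivOver_mk Φ (fun {w w'} ψ => ?_) (fun {w w'} φ φ' h => ?_) (fun η => ?_), rfl, rfl⟩
  · refine ⟨fpHom ψ.hom.snd ψ.hom.fst ?_, fp_ext rfl rfl⟩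
    have h : G.map ψ.hom.fst ≫ w'.obj.iso.inv = w.obj.iso.inv ≫ f.map ψ.hom.snd := ψ.hom.w
    rw [Iso.eq_inv_comp, ← Category.assoc, Iso.comp_inv_eq] at h
    exact h.symm
  · exact fp_ext (congrArg (fun m => m.hom.snd) h) (congrArg (fun m => m.hom.fst) h)
  · exact ⟨fpMk η.obj.snd η.obj.fst η.obj.iso.symm (fp_vert η).symm,
      fpIsoMk (Iso.refl _) (Iso.refl _) (by
        show G.map (𝟙 _) ≫ η.obj.iso.hom = η.obj.iso.hom ≫ f.map (𝟙 _)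
        rw [G.toFunctor.map_id, f.toFunctor.map_id]
        exact (Category.id_comp _).trans (Category.comp_id _).symm), Vert.id _⟩

end PasteFst

section Thin

variable {𝒳 : BasedCategory.{v₂, u₂} C} {𝒴 : BasedCategory.{v₃, u₃} C} {𝒲 : BasedCategory.{v₄, u₄} C}

/-- a fibre product with thin first factor and faithful second map is thin -/
theorem thin_fp (y : 𝒲 ⥤ᵇ 𝒴) (f : 𝒳 ⥤ᵇ 𝒴) (ht : Thin 𝒲.p)
    (hf : ∀ {a b : 𝒳.obj} (φ φ' : a ⟶ b), f.map φ = f.map φ' → φ = φ') : Thin (fp y f).p := by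
  intro w w' φ φ' hφ hφ'
  have h1 : φ.hom.fst = φ'.hom.fst := ht _ _ (hφ.map (F := fpFst y f)) (hφ'.map (F := fpFst y f))
  refine fp_ext h1 (hf _ _ ?_)
  rw [← cancel_epi w.obj.iso.hom, ← φ.hom.w, ← φ'.hom.w, h1]

theorem thin_overCat (U : C) : Thin (overCat U).p := fun φ φ' h h' =>
  Over.OverMorphism.ext (h.map_eq.trans h'.map_eq.symm)

theorem thin_ofPsh (P : Cᵒᵖ ⥤ Type w) : Thin (_root_.Stk.ofPsh P).p := fun φ φ' h h' =>
  _root_.Stk.EltObj.hom_ext (h.map_eq.trans h'.map_eq.symm)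

theorem thin_of_equiv (Φ : 𝒳 ⥤ᵇ 𝒴) (h : IsEquivOver Φ) (ht : Thin 𝒴.p) : Thin 𝒳.p :=
  fun φ φ' hφ hφ' => (equiv_props h).2.1 _ _ (ht _ _ hφ.map hφ'.map)

/-- the setoid of objects up to vertical isomorphism -/
abbrev objSetoid (𝒳 : BasedCategory.{v₂, u₂} C) (T : C) : Setoid {x : 𝒳.obj // 𝒳.p.obj x = T} where
  r a b := ∃ e : a.1 ≅ b.1, Vert 𝒳.p e.hom
  iseqv := ⟨fun a => ⟨Iso.refl _, Vert.id _⟩, fun ⟨e, he⟩ => ⟨e.symm, he.symm⟩,
    fun ⟨e, he⟩ ⟨e', he'⟩ => ⟨e ≪≫ e', he.comp he'⟩⟩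

theorem exists_presheaf (h : IsFibGrpd 𝒳.p) (ht : Thin 𝒳.p) :
    ∃ (P : Cᵒᵖ ⥤ Type u₂) (E : 𝒳 ⥤ᵇ _root_.Stk.ofPsh P), IsEquivOver E := by
  have lift : ∀ {T' T : C} (g : T' ⟶ T) (x : {x : 𝒳.obj // 𝒳.p.obj x = T}),
      ∃ (y : {y : 𝒳.obj // 𝒳.p.obj y = T'}) (φ : y.1 ⟶ x.1),
        𝒳.p.map φ = CategoryTheory.eqToHom y.2 ≫ g ≫ CategoryTheory.eqToHom x.2.symm := fun g x => by
    obtain ⟨y, φ, e, he⟩ := exists_lift' h (x := x.1) (g ≫ CategoryTheory.eqToHom x.2.symm)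
    exact ⟨⟨y, e⟩, φ, he⟩
  choose Y Φ hΦ using @lift
  let q : ∀ {T : C}, {x : 𝒳.obj // 𝒳.p.obj x = T} → Quotient (objSetoid 𝒳 T) := fun x => Quotient.mk _ x
  have uniq : ∀ {T' T : C} (g : T' ⟶ T) (x : {x : 𝒳.obj // 𝒳.p.obj x = T})
      (y : {y : 𝒳.obj // 𝒳.p.obj y = T'}) (φ : y.1 ⟶ x.1),
      𝒳.p.map φ = CategoryTheory.eqToHom y.2 ≫ g ≫ CategoryTheory.eqToHom x.2.symm → q y = q (Y g x) := by
    intro T' T g x y φ hφ
    obtain ⟨θ, hθ, -⟩ := sc_iso (h.isStronglyCartesian φ) (h.isStronglyCartesian (Φ g x))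
      (y.2.trans (Y g x).2.symm) (by rw [hφ, hΦ]; simp)
    exact Quotient.sound ⟨θ, hθ⟩
  let m : ∀ {T' T : C}, (T' ⟶ T) → Quotient (objSetoid 𝒳 T) → Quotient (objSetoid 𝒳 T') := fun {T' T} g =>
    Quotient.lift (fun x => q (Y g x)) (fun a b ⟨e, he⟩ => uniq g b (Y g a) (Φ g a ≫ e.hom) (by
      rw [Functor.map_comp, hΦ, he.map_eq]; simp))
  let P : Cᵒᵖ ⥤ Type u₂ :=
    { obj := fun T => Quotient (objSetoid 𝒳 T.unop)
      map := fun g => TypeCat.ofHom (m g.unop)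
      map_id := fun T => by
        ext a
        induction a using Quotient.ind with
        | _ x => exact (uniq (𝟙 T.unop) x x (𝟙 _) (by simp)).symm
      map_comp := fun {T₁ T₂ T₃} g g' => by
        ext a
        induction a using Quotient.ind with
        | _ x => exact (uniq (g ≫ g').unop x (Y g'.unop (Y g.unop x)) (Φ g'.unop (Y g.unop x) ≫ Φ g.unop x)
            (by rw [Functor.map_comp, hΦ, hΦ]; simp)).symm }
  let E : 𝒳 ⥤ᵇ _root_.Stk.ofPsh P :=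
    { toFunctor :=
        { obj := fun x => ⟨𝒳.p.obj x, q ⟨x, rfl⟩⟩
          map := fun {x y} φ => ⟨𝒳.p.map φ,
            (uniq (𝒳.p.map φ) ⟨y, rfl⟩ ⟨x, rfl⟩ φ (by simp)).symm⟩
          map_id := fun x => _root_.Stk.EltObj.hom_ext (𝒳.p.map_id x)
          map_comp := fun φ ψ => _root_.Stk.EltObj.hom_ext (𝒳.p.map_comp φ ψ) }
      w := rfl }
  refine ⟨P, E, isEquivOver_mk E (fun {x y} ψ => ?_) (fun {x y} φ φ' e => ?_) fun η => ?_⟩
  · obtain ⟨θ, hθ⟩ := Quotient.exact (s := objSetoid 𝒳 (𝒳.p.obj x))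
      (show q (Y ψ.hom ⟨y, rfl⟩) = q ⟨x, rfl⟩ from ψ.map_sec)
    refine ⟨θ.inv ≫ Φ ψ.hom ⟨y, rfl⟩, _root_.Stk.EltObj.hom_ext ?_⟩
    show 𝒳.p.map (θ.inv ≫ Φ ψ.hom ⟨y, rfl⟩) = ψ.hom
    rw [Functor.map_comp, hθ.symm.map_eq, hΦ]; simp
  · have e' : 𝒳.p.map φ = 𝒳.p.map φ' := congrArg (fun k => k.hom) e
    obtain ⟨z, l, ez, hl⟩ := exists_lift' h (x := y) (𝒳.p.map φ)
    obtain ⟨t, h1, h2⟩ := sc_exists (h.isStronglyCartesian l) φ (CategoryTheory.eqToHom ez.symm) (by rw [hl]; simp)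
    obtain ⟨t', h1', h2'⟩ := sc_exists (h.isStronglyCartesian l) φ' (CategoryTheory.eqToHom ez.symm)
      (by rw [hl, e']; simp)
    rw [← h2, ← h2', ht t t' ⟨ez.symm, h1⟩ ⟨ez.symm, h1'⟩]
  · obtain ⟨T, s⟩ := η
    induction s using Quotient.ind with
    | _ x =>
      obtain ⟨x, hx⟩ := x
      change 𝒳.p.obj x = T at hx
      subst hx
      exact ⟨x, Iso.refl _, Vert.id _⟩

end Thin

end Groth.Agent.H7.Stk.Congr
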