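import Groth.Agent.H7.Stk.Local
import Mathlib.CategoryTheory.Sites.InducedTopology
import Mathlib.CategoryTheory.Sites.Over

/-! The inherited topology on a category fibred in groupoids. -/

set_option autoImplicit false
set_option backward.isDefEq.respectTransparency false
set_option backward.isDefEq.respectTransparency.types false

universe v₂ v₃ v₄ u₂ u₃ u₄ v u

open CategoryTheory CategoryTheory.Functor FibCat Opposite
open Groth.Agent.LeadFibCat

namespace Groth.Agent.H7.Stk.Glue

section Plain

variable {C : Type u} [Category.{v} C] {A : Type u₂} [Category.{v₂} A] {p : A ⥤ C}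

theorem push_iff (hp : IsFibGrpd p) {x z : A} (S : Sieve x) (φ : z ⟶ x) :
    S.functorPushforward p (p.map φ) ↔ S φ := by
  refine ⟨fun h => ?_, fun h => Sieve.image_mem_functorPushforward p S h⟩
  obtain ⟨w, ψ, g, hS, e⟩ := h
  obtain ⟨χ, -, hχ⟩ := sc_exists (hp.isStronglyCartesian ψ) φ g e.symm
  rw [← hχ]
  exact S.downward_closed hS χ

theorem push_exists (hp : IsFibGrpd p) {x : A} (S : Sieve x) {V : C} (g : V ⟶ p.obj x)
    (h : S.functorPushforward p g) :
    ∃ (z : A) (φ : z ⟶ x) (e : p.obj z = V), S φ ∧ p.map φ = CategoryTheory.eqToHom e ≫ g := by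
  obtain ⟨z, φ, e, he⟩ := exists_lift' hp g
  refine ⟨z, φ, e, (push_iff hp S φ).1 ?_, he⟩
  rw [he]
  exact Sieve.downward_closed _ h _

theorem push_pullback (hp : IsFibGrpd p) {x y : A} (S : Sieve x) (φ : y ⟶ x) :
    (S.pullback φ).functorPushforward p = (S.functorPushforward p).pullback (p.map φ) := by
  refine le_antisymm (Sieve.functorPushforward_pullback_le p φ S) fun V g hg => ?_
  obtain ⟨z, χ, e, he⟩ := exists_lift' hp g
  have h1 : S (χ ≫ φ) := (push_iff hp S _).1 (by
    rw [p.map_comp, he, Category.assoc]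
    exact Sieve.downward_closed (S.functorPushforward p) hg _)
  have h2 := Sieve.downward_closed _
    (Sieve.image_mem_functorPushforward p (S.pullback φ) (f := χ) h1) (CategoryTheory.eqToHom e.symm)
  rw [he] at h2
  simpa using h2

/-- sieves whose image covers -/
def imgTopology (hp : IsFibGrpd p) (J : GrothendieckTopology C) : GrothendieckTopology A where
  sieves x := {S | S.functorPushforward p ∈ J (p.obj x)}
  top_mem' x := by simp
  pullback_stable' x y S f hS := by
    show (S.pullback f).functorPushforward p ∈ J (p.obj y)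
    rw [push_pullback hp]
    exact J.pullback_stable _ hS
  transitive' x S hS R hR := by
    refine J.transitive hS _ fun V g hg => ?_
    obtain ⟨z, φ, h, hφ, rfl⟩ := hg
    rw [Sieve.pullback_comp]
    have := hR hφ
    change (R.pullback φ).functorPushforward p ∈ J (p.obj z) at this
    rw [push_pullback hp] at this
    exact J.pullback_stable h this

theorem mem_restricted_iff (hp : IsFibGrpd p) (J : GrothendieckTopology C) {x : A} (S : Sieve x) :
    S ∈ p.restrictedTopology J x ↔ S.functorPushforward p ∈ J (p.obj x) := by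
  refine ⟨fun h => ?_, mem_restrictedTopology_of_functorPushforward_mem⟩
  have : p.restrictedTopology J ≤ imgTopology hp J := by
    refine Precoverage.toGrothendieck_le_iff_le_toPrecoverage.2 fun X R hR => ?_
    show (Sieve.generate R).functorPushforward p ∈ J (p.obj X)
    rw [← Sieve.generate_map_eq_functorPushforward]
    exact hR
  exact this x h

theorem pre_mem (hp : IsFibGrpd p) (J : GrothendieckTopology C) {x : A} {U : C} (e : p.obj x = U) {R : Sieve U}
    (hR : R ∈ J U) : (R.pullback (CategoryTheory.eqToHom e)).functorPullback p ∈ p.restrictedTopology J x := by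
  rw [mem_restricted_iff hp]
  refine J.superset_covering (fun V g hg => ?_) (J.pullback_stable (CategoryTheory.eqToHom e) hR)
  obtain ⟨z, φ, ez, he⟩ := exists_lift' hp g
  refine ⟨z, φ, CategoryTheory.eqToHom ez.symm, ?_, by rw [he]; simp⟩
  show R (p.map φ ≫ _)
  rw [he, Category.assoc]
  exact R.downward_closed hg _

theorem post_isEquivalence (hp : IsFibGrpd p) (x : A) :
    (Over.post p : Over x ⥤ Over (p.obj x)).IsEquivalence := by
  haveI : (Over.post (X := x) p).Faithful := ⟨fun {a b f g} e => Over.OverMorphism.ext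
    (sc_ext (hp.isStronglyCartesian b.hom) (congrArg (fun k => k.left) e) ((Over.w f).trans (Over.w g).symm))⟩
  haveI : (Over.post (X := x) p).Full := ⟨fun {a b} k => by
    obtain ⟨χ, h1, h2⟩ := sc_exists (hp.isStronglyCartesian b.hom) a.hom k.left (Over.w k)
    exact ⟨Over.homMk χ h2, Over.OverMorphism.ext h1⟩⟩
  haveI : (Over.post (X := x) p).EssSurj := ⟨fun a => by
    obtain ⟨z, φ, e, he⟩ := exists_lift' hp a.hom
    exact ⟨Over.mk φ, ⟨Over.isoMk (eqToIso e) he.symm⟩⟩⟩
  exact {}

theorem over_mem_iff (hp : IsFibGrpd p) (J : GrothendieckTopology C) (x : A) (a : Over x) (S : Sieve a) :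
    S ∈ (p.restrictedTopology J).over x a ↔
      S.functorPushforward (Over.post p) ∈ (J.over (p.obj x)) ((Over.post p).obj a) := by
  rw [GrothendieckTopology.mem_over_iff, GrothendieckTopology.mem_over_iff, mem_restricted_iff hp]
  have e : (S.functorPushforward (Over.forget x)).functorPushforward p =
      (S.functorPushforward (Over.post p)).functorPushforward (Over.forget (p.obj x)) := by
    rw [← Sieve.functorPushforward_comp, ← Sieve.functorPushforward_comp]
    rfl
  change (S.functorPushforward (Over.forget x)).functorPushforward p ∈ J _ ↔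
    (S.functorPushforward (Over.post p)).functorPushforward (Over.forget (p.obj x)) ∈ J _
  rw [e]
  rfl

end Plain

section Func

variable {C : Type u} [Category.{v} C] {𝒳 : BasedCategory.{v₂, u₂} C} {𝒴 : BasedCategory.{v₃, u₃} C}

theorem continuous_based (J : GrothendieckTopology C) (h𝒳 : IsFibGrpd 𝒳.p) (h𝒴 : IsFibGrpd 𝒴.p)
    (F : 𝒳 ⥤ᵇ 𝒴) :
    CoverPreserving (𝒳.p.restrictedTopology J) (𝒴.p.restrictedTopology J) F.toFunctor ∧
      F.toFunctor.IsCocontinuous (𝒳.p.restrictedTopology J) (𝒴.p.restrictedTopology J) ∧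
      F.toFunctor.IsContinuous (𝒳.p.restrictedTopology J) (𝒴.p.restrictedTopology J) := by
  have hcp : CoverPreserving (𝒳.p.restrictedTopology J) (𝒴.p.restrictedTopology J) F.toFunctor := by
    refine ⟨fun {x S} hS => ?_⟩
    rw [mem_restricted_iff h𝒳] at hS
    rw [mem_restricted_iff h𝒴]
    refine J.superset_covering (fun V g hg => ?_)
      (J.pullback_stable (CategoryTheory.eqToHom (pobj F x)) hS)
    obtain ⟨z, φ, e, hφ, he⟩ := push_exists h𝒳 S _ hg
    refine ⟨F.obj z, F.map φ, CategoryTheory.eqToHom (e.symm.trans (pobj F z).symm),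
      Sieve.image_mem_functorPushforward F.toFunctor S hφ, ?_⟩
    rw [pmap, he]; simp
  refine ⟨hcp, ⟨fun {x S} hS => ?_⟩, ?_⟩
  · rw [mem_restricted_iff h𝒴] at hS
    rw [mem_restricted_iff h𝒳]
    refine J.superset_covering (fun V g hg => ?_)
      (J.pullback_stable (CategoryTheory.eqToHom (pobj F x).symm) hS)
    obtain ⟨z, φ, e, he⟩ := exists_lift' h𝒳 g
    refine ⟨z, φ, CategoryTheory.eqToHom e.symm, ?_, by rw [he]; simp⟩
    show S (F.map φ)
    refine (push_iff h𝒴 S _).1 ?_
    rw [pmap, he]
    simpa using Sieve.downward_closed _ hg (CategoryTheory.eqToHom ((pobj F z).trans e))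
  · refine Functor.isContinuous_of_coverPreserving ⟨fun G Z T s hs Y₁ Y₂ X f₁ f₂ g₁ g₂ hg₁ hg₂ e => ?_⟩ hcp
    obtain ⟨z, h₁, t, ht, ht'⟩ := lift_img h𝒳 h𝒴 F f₁
    have e' := congrArg 𝒴.p.map e
    rw [← ht'] at e'
    simp only [Functor.map_comp, ht.map_eq, pmap, Category.assoc] at e'
    obtain ⟨h₂, hh, hh'⟩ := sc_exists (h𝒳.isStronglyCartesian g₂) (h₁ ≫ g₁)
      (CategoryTheory.eqToHom ((pobj F z).symm.trans ht.1.symm) ≫ 𝒴.p.map f₂ ≫
        CategoryTheory.eqToHom (pobj F Y₂)) (by
        rw [← cancel_epi (CategoryTheory.eqToHom (ht.1.trans (pobj F z))),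
          ← cancel_mono (CategoryTheory.eqToHom (pobj F Z).symm)]
        simp only [Functor.map_comp, Category.assoc, eqToHom_trans_assoc, eqToHom_refl, Category.id_comp] at e' ⊢
        rw [e'])
    have hf₂ : t.hom ≫ F.map h₂ = f₂ := by
      refine sc_ext (h𝒴.isStronglyCartesian (F.map g₂)) ?_ ?_
      · rw [Functor.map_comp, ht.map_eq, pmap, hh]; simp
      · rw [Category.assoc, ← Functor.map_comp, hh', Functor.map_comp, ← Category.assoc, ht', e]
    subst hf₂
    subst ht'
    simp only [op_comp, Functor.map_comp_apply]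
    exact congrArg (G.obj.map t.hom.op) (hs h₁ h₂ hg₁ hg₂ hh'.symm)

end Func

end Groth.Agent.H7.Stk.Glue
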