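import Groth.Agent.H7.Stk.Psh
import Groth.Agent.H7.Stk.Topo

/-! Stacks over stacks. -/

set_option autoImplicit false
set_option backward.isDefEq.respectTransparency false
set_option backward.isDefEq.respectTransparency.types false

universe v₂ v₃ v₄ u₂ u₃ u₄ v u

open CategoryTheory CategoryTheory.Functor FibCat
open Groth.Agent.LeadFibCat

namespace Groth.Agent.H7.Stk.Glue

variable {C : Type u} [Category.{v} C] {J : GrothendieckTopology C}
  {𝒳 : BasedCategory.{v₂, u₂} C} {𝒴 : BasedCategory.{v₃, u₃} C}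

theorem stack_over (h𝒳 : _root_.Stk.IsStack J 𝒳) (h𝒴 : _root_.Stk.IsStack J 𝒴) (F : 𝒳 ⥤ᵇ 𝒴)
    (hF : IsFibGrpd F.toFunctor) :
    _root_.Stk.IsStack (𝒴.p.restrictedTopology J) (BasedCategory.ofFunctor F.toFunctor) := by
  rw [stack_iff] at h𝒳 h𝒴 ⊢
  refine ⟨hF, fun y T hT => ?_⟩
  rw [mem_restricted_iff h𝒴.1] at hT
  constructor
  · intro x x' hx hx' M hM hMn
    change F.obj x = y at hx
    change F.obj x' = y at hx'
    have hU : 𝒳.p.obj x = 𝒴.p.obj y := (pobj F x).symm.trans (congrArg 𝒴.p.obj hx)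
    have hU' : 𝒳.p.obj x' = 𝒴.p.obj y := (pobj F x').symm.trans (congrArg 𝒴.p.obj hx')
    have hmem : ∀ ⦃z : 𝒳.obj⦄ (φ : z ⟶ x),
        (T.functorPushforward 𝒴.p) (𝒳.p.map φ ≫ eqToHom hU) ↔ T (F.map φ ≫ eqToHom hx) := by
      intro z φ
      rw [← push_iff h𝒴.1 T (F.map φ ≫ eqToHom hx), Functor.map_comp, pmap, eqToHom_map]
      constructor
      · intro h
        simpa using Sieve.downward_closed _ h (eqToHom (pobj F z))
      · intro h
        simpa using Sieve.downward_closed _ h (eqToHom (pobj F z).symm)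
    obtain ⟨θ, ⟨hv, hθ⟩, hu⟩ := (h𝒳.2 _ hT).1 x x' hU hU' (fun z φ h => M φ ((hmem φ).1 h))
      (fun z φ h => by
        have e1 : 𝒴.p.map (F.map (M φ ((hmem φ).1 h))) =
            𝒴.p.map (F.map φ ≫ eqToHom (hx.trans hx'.symm)) := congrArg 𝒴.p.map (hM φ ((hmem φ).1 h))
        rw [pmap, Functor.map_comp, pmap, eqToHom_map] at e1
        rw [← cancel_epi (eqToHom (pobj F z)), ← cancel_mono (eqToHom (pobj F x').symm)]
        simp only [Category.assoc, eqToHom_trans] at e1 ⊢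
        rw [e1])
      (fun z z' χ φ h h' => hMn χ φ _ _)
    have hFv : Vert 𝒴.p (eqToHom (hx.trans hx'.symm)) := Vert.eqToHom _
    have hFθ : F.map θ = eqToHom (hx.trans hx'.symm) :=
      img_ext h𝒳.1 h𝒴.1 (h𝒴.2 _ hT).1 F hU hv.map hFv fun z φ h => by
        rw [← Functor.map_comp, hθ φ h]
        exact hM φ ((hmem φ).1 h)
    refine ⟨θ, ⟨⟨hx.trans hx'.symm, hFθ⟩, fun z φ h => hθ φ ((hmem φ).2 h)⟩,
      fun θ' ⟨hv', hθ'⟩ => hu θ' ⟨?_, fun z φ h => hθ' φ ((hmem φ).1 h)⟩⟩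
    obtain ⟨e, he⟩ := hv'
    change F.map θ' = eqToHom e at he
    exact Vert.reflect (F := F) (by rw [he]; exact Vert.eqToHom _)
  · intro H
    have key : ∀ a : (_root_.Stk.sieveCat (T.functorPushforward 𝒴.p)).obj,
        ∃ (z : 𝒴.obj) (φ : z ⟶ y) (e : 𝒴.p.obj z = a.obj.left), T φ ∧ 𝒴.p.map φ = eqToHom e ≫ a.obj.hom :=
      fun a => push_exists h𝒴.1 T a.obj.hom a.property
    choose Z Φ eZ hΦ hΦ' using key
    let lo : (_root_.Stk.sieveCat (T.functorPushforward 𝒴.p)).obj → (_root_.Stk.sieveCat T).obj :=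
      fun a => ⟨Over.mk (Φ a), hΦ a⟩
    have km : ∀ {a b} (m : a ⟶ b), ∃ k : lo a ⟶ lo b, 𝒴.p.map k.hom.left =
        eqToHom (eZ a) ≫ (_root_.Stk.sieveCat (T.functorPushforward 𝒴.p)).p.map m ≫ eqToHom (eZ b).symm := by
      intro a b m
      have w : (_root_.Stk.sieveCat (T.functorPushforward 𝒴.p)).p.map m ≫ b.obj.hom = a.obj.hom := Over.w m.hom
      obtain ⟨χ, h1, h2⟩ := sc_exists (h𝒴.1.isStronglyCartesian (Φ b)) (Φ a)
        (eqToHom (eZ a) ≫ (_root_.Stk.sieveCat (T.functorPushforward 𝒴.p)).p.map m ≫ eqToHom (eZ b).symm)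
        (by rw [hΦ', hΦ', ← w]; simp)
      exact ⟨ObjectProperty.homMk (Over.homMk χ h2), h1⟩
    choose lm hlm using @km
    have lext : ∀ {a : (_root_.Stk.sieveCat T).obj} {b} (k k' : a ⟶ lo b),
        𝒴.p.map k.hom.left = 𝒴.p.map k'.hom.left → k = k' := fun {a b} k k' e => by
      apply ObjectProperty.hom_ext
      exact Over.OverMorphism.ext (sc_ext (h𝒴.1.isStronglyCartesian (Φ b)) e
        ((Over.w k.hom).trans (Over.w k'.hom).symm))
    let L : (_root_.Stk.sieveCat (T.functorPushforward 𝒴.p)).obj ⥤ (_root_.Stk.sieveCat T).obj :=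
      { obj := lo
        map := fun m => lm m
        map_id := fun a => lext _ _ (by
          rw [hlm]
          show _ = 𝒴.p.map (𝟙 (Z a))
          rw [𝒴.p.map_id]
          exact ((congrArg (eqToHom (eZ a) ≫ ·) (Category.id_comp _)).trans (eqToHom_trans _ _)).trans
            (eqToHom_refl _ _))
        map_comp := fun {a b c} m n => lext _ _ (by
          rw [hlm, Functor.map_comp]
          show _ = 𝒴.p.map ((lm m).hom.left ≫ (lm n).hom.left)
          rw [𝒴.p.map_comp, hlm, hlm]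
          simp) }
    have hFH : ∀ {a b : (_root_.Stk.sieveCat T).obj} (k : a ⟶ b),
        F.map (H.map k) = eqToHom (pobj H a) ≫ k.hom.left ≫ eqToHom (pobj H b).symm := fun k => pmap H k
    have hFo : ∀ a : (_root_.Stk.sieveCat T).obj, F.obj (H.obj a) = a.obj.left := fun a => pobj H a
    let H' : _root_.Stk.sieveCat (T.functorPushforward 𝒴.p) ⥤ᵇ 𝒳 :=
      { toFunctor := L ⋙ H.toFunctor
        w := CategoryTheory.Functor.ext (fun a => (pobj F _).symm.trans
            ((congrArg 𝒴.p.obj (hFo (lo a))).trans (eZ a))) fun a b m => by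
          have e1 := pmap F (H.map (lm m))
          rw [hFH, Functor.map_comp, Functor.map_comp, eqToHom_map, eqToHom_map, hlm] at e1
          show 𝒳.p.map (H.map (lm m)) = _
          rw [← cancel_epi (eqToHom (pobj F (H.obj (lo a)))),
            ← cancel_mono (eqToHom (pobj F (H.obj (lo b))).symm)]
          simp only [Category.assoc, eqToHom_trans_assoc, eqToHom_trans] at e1 ⊢
          rw [← e1] }
    obtain ⟨c⟩ := (h𝒳.2 _ hT).2 H'
    let c₁ : Cocone (BasedFunctor.comp H' F) :=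
      { pt := y
        over := rfl
        map := fun a => eqToHom (hFo (lo a)) ≫ Φ a
        proj := fun a => by rw [Functor.map_comp, eqToHom_map, hΦ']; simp
        natural := fun {a b} m => by
          show F.map (H.map (lm m)) ≫ eqToHom (hFo (lo b)) ≫ Φ b = eqToHom (hFo (lo a)) ≫ Φ a
          rw [hFH, ← show (lm m).hom.left ≫ Φ b = Φ a from Over.w (lm m).hom]
          simp }
    obtain ⟨θ, ⟨hv, hθ⟩, -⟩ := (c.post F).desc h𝒴.1 (h𝒴.2 _ hT).1 c₁
    haveI : IsIso θ := isIso_of_vert h𝒴.1 hv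
    obtain ⟨x', φ', ex, hφ'⟩ := exists_lift' hF (x := c.pt) (inv θ)
    let ar : ∀ b : (_root_.Stk.sieveCat T).obj, (_root_.Stk.sieveCat (T.functorPushforward 𝒴.p)).obj := fun b =>
      ⟨Over.mk (𝒴.p.map b.obj.hom), Sieve.image_mem_functorPushforward 𝒴.p T b.property⟩
    have kb : ∀ b, ∃ k : b ⟶ lo (ar b), 𝒴.p.map k.hom.left = eqToHom (eZ (ar b)).symm := by
      intro b
      obtain ⟨χ, h1, h2⟩ := sc_exists (h𝒴.1.isStronglyCartesian (Φ (ar b))) b.obj.hom
        (eqToHom (eZ (ar b)).symm) (by rw [hΦ']; simp [ar])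
      exact ⟨ObjectProperty.homMk (Over.homMk χ h2), h1⟩
    choose kk hkk using kb
    have hθ' : ∀ a, F.map (c.map a) ≫ θ = eqToHom (hFo (lo a)) ≫ Φ a := hθ
    have c1 : ∀ b, F.map (H.map (kk b) ≫ c.map (ar b)) = eqToHom (hFo b) ≫ b.obj.hom ≫ inv θ := by
      intro b
      rw [← cancel_mono θ, Functor.map_comp, Category.assoc, hθ', hFH,
        ← show (kk b).hom.left ≫ Φ (ar b) = b.obj.hom from Over.w (kk b).hom]
      simp
    have key2 : ∀ b, ∃ χ : H.obj b ⟶ x', F.map χ = eqToHom (hFo b) ≫ b.obj.hom ≫ eqToHom ex.symm ∧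
        χ ≫ φ' = H.map (kk b) ≫ c.map (ar b) := fun b =>
      sc_exists (hF.isStronglyCartesian φ') _ _ (by rw [c1, hφ']; simp)
    choose C' hC' hC'' using key2
    refine ⟨⟨x', ex, C', fun b => hC' b, fun {a b} m => ?_⟩⟩
    refine sc_ext (hF.isStronglyCartesian φ') ?_ ?_
    · rw [Functor.map_comp, hC', hC', hFH, ← show m.hom.left ≫ b.obj.hom = a.obj.hom from Over.w m.hom]
      simp
    · let n : ar a ⟶ ar b := ObjectProperty.homMk (Over.homMk (𝒴.p.map m.hom.left) (by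
        show 𝒴.p.map m.hom.left ≫ 𝒴.p.map b.obj.hom = 𝒴.p.map a.obj.hom
        rw [← Functor.map_comp, Over.w m.hom]))
      have e : m ≫ kk b = kk a ≫ lm n := lext _ _ (by
        show 𝒴.p.map (m.hom.left ≫ (kk b).hom.left) = 𝒴.p.map ((kk a).hom.left ≫ (lm n).hom.left)
        rw [Functor.map_comp, Functor.map_comp, hkk, hkk, hlm,
          show (_root_.Stk.sieveCat (T.functorPushforward 𝒴.p)).p.map n = 𝒴.p.map m.hom.left from rfl]
        simp)
      rw [Category.assoc, hC'', hC'', ← Category.assoc, ← H.toFunctor.map_comp, e, H.toFunctor.map_comp,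
        Category.assoc]
      exact congrArg (H.map (kk a) ≫ ·) (c.natural n)

theorem stack_comp (h𝒳 : _root_.Stk.IsStack J 𝒳) (𝒵 : BasedCategory.{v₄, u₄} 𝒳.obj)
    (h𝒵 : _root_.Stk.IsStack (𝒳.p.restrictedTopology J) 𝒵) :
    _root_.Stk.IsStack J (BasedCategory.ofFunctor (𝒵.p ⋙ 𝒳.p)) := by
  rw [stack_iff] at h𝒳 h𝒵 ⊢
  have hfib : IsFibGrpd (BasedCategory.ofFunctor (𝒵.p ⋙ 𝒳.p)).p := by
    refine isFibGrpd_mk (fun {x V} f => ?_) (fun {y x} φ => sc_mk φ (fun {z} ψ g hg => ?_) (fun {z} χ χ' h₁ h₂ => ?_))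
    · obtain ⟨w, φ, e, he⟩ := exists_lift' h𝒳.1 (x := 𝒵.p.obj x) f
      obtain ⟨z, l, e', hl⟩ := exists_lift' h𝒵.1 φ
      refine ⟨z, l, (congrArg 𝒳.p.obj e').trans e, ?_⟩
      show 𝒳.p.map (𝒵.p.map l) = _
      rw [hl, Functor.map_comp, eqToHom_map, he, eqToHom_trans_assoc]
    · obtain ⟨χ₀, h1, h2⟩ := sc_exists (h𝒳.1.isStronglyCartesian (𝒵.p.map φ)) (𝒵.p.map ψ) g hg
      obtain ⟨χ, h3, h4⟩ := sc_exists (h𝒵.1.isStronglyCartesian φ) ψ χ₀ h2
      refine ⟨χ, ?_, h4⟩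
      show 𝒳.p.map (𝒵.p.map χ) = g
      rw [h3, h1]
    · refine sc_ext (h𝒵.1.isStronglyCartesian φ) (sc_ext (h𝒳.1.isStronglyCartesian (𝒵.p.map φ)) h₁ ?_) h₂
      rw [← Functor.map_comp, ← Functor.map_comp, h₂]
  let I : BasedCategory.ofFunctor (𝒵.p ⋙ 𝒳.p) ⥤ᵇ 𝒳 := { toFunctor := 𝒵.p, w := rfl }
  refine ⟨hfib, fun U R hR => ⟨fun x x' hx hx' M hM hMn => ?_, fun H => ?_⟩⟩
  · change 𝒳.p.obj (𝒵.p.obj x) = U at hx
    change 𝒳.p.obj (𝒵.p.obj x') = U at hx'
    obtain ⟨θ₀, ⟨hv₀, hθ₀⟩, hu₀⟩ := img_glue hfib h𝒳.1 (h𝒳.2 R hR).1 I x (𝒵.p.obj x') hx hx'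
      (fun z φ h => 𝒵.p.map (M φ h)) (fun z φ h => (hM φ h).trans (Category.id_comp _).symm)
      (fun z z' χ φ h h' => by rw [hMn χ φ h h', Functor.map_comp])
    have hT : (R.pullback (eqToHom hx)).functorPullback 𝒳.p ∈ 𝒳.p.restrictedTopology J (𝒵.p.obj x) :=
      pre_mem h𝒳.1 J hx hR
    obtain ⟨θ, ⟨hθ, hθ'⟩, hu⟩ := (h𝒵.2 _ hT).1.over h𝒵.1 θ₀ (fun z φ h => M φ h)
      (fun z φ h => (hθ₀ φ h).symm) (fun z z' χ φ h h' => hMn χ φ _ _)
    refine ⟨θ, ⟨⟨hv₀.1, by rw [← hv₀.2, ← hθ]; rfl⟩, fun z φ h => hθ' φ h⟩,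
      fun θ' ⟨hv', hθ₁⟩ => hu θ' ⟨hu₀ _ ⟨⟨hv'.1, hv'.2⟩, fun z φ h => ?_⟩, fun z φ h => hθ₁ φ h⟩⟩
    show 𝒵.p.map φ ≫ 𝒵.p.map θ' = 𝒵.p.map (M φ h)
    rw [← Functor.map_comp, hθ₁ φ h]
  · obtain ⟨c⟩ := (h𝒳.2 R hR).2 (BasedFunctor.comp H I)
    let T : Sieve c.pt := (R.pullback (eqToHom c.over)).functorPullback 𝒳.p
    have hT : T ∈ 𝒳.p.restrictedTopology J c.pt := pre_mem h𝒳.1 J c.over hR
    let lo : (_root_.Stk.sieveCat T).obj → (_root_.Stk.sieveCat R).obj := fun b =>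
      ⟨Over.mk (𝒳.p.map b.obj.hom ≫ eqToHom c.over), b.property⟩
    let lm : ∀ {a b : (_root_.Stk.sieveCat T).obj}, (a ⟶ b) → (lo a ⟶ lo b) := fun {a b} m =>
      ObjectProperty.homMk (Over.homMk (𝒳.p.map m.hom.left) (by
        show 𝒳.p.map m.hom.left ≫ 𝒳.p.map b.obj.hom ≫ eqToHom c.over = 𝒳.p.map a.obj.hom ≫ eqToHom c.over
        rw [← Functor.map_comp_assoc, Over.w m.hom]))
    have ho : ∀ a, 𝒳.p.obj (𝒵.p.obj (H.obj a)) = a.obj.left := fun a => pobj H a
    have hm : ∀ {a b : (_root_.Stk.sieveCat R).obj} (k : a ⟶ b),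
        𝒳.p.map (𝒵.p.map (H.map k)) = eqToHom (ho a) ≫ k.hom.left ≫ eqToHom (ho b).symm := fun k => pmap H k
    have cn : ∀ {a b : (_root_.Stk.sieveCat R).obj} (k : a ⟶ b),
        𝒵.p.map (H.map k) ≫ c.map b = c.map a := fun k => c.natural k
    have cp : ∀ a, 𝒳.p.map (c.map a) = eqToHom (ho a) ≫ a.obj.hom ≫ eqToHom c.over.symm := c.proj
    have kt : ∀ b : (_root_.Stk.sieveCat T).obj, ∃ t : b.obj.left ⟶ 𝒵.p.obj (H.obj (lo b)),
        𝒳.p.map t = eqToHom (ho (lo b)).symm ∧ t ≫ c.map (lo b) = b.obj.hom := fun b =>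
      sc_exists (h𝒳.1.isStronglyCartesian (c.map (lo b))) b.obj.hom (eqToHom (ho (lo b)).symm)
        (by rw [cp]; simp [lo])
    choose t ht ht' using kt
    have kl : ∀ b, ∃ (z : 𝒵.obj) (l : z ⟶ H.obj (lo b)) (e : 𝒵.p.obj z = b.obj.left),
        𝒵.p.map l = eqToHom e ≫ t b := fun b => exists_lift' h𝒵.1 (t b)
    choose Z l eZ hl using kl
    have ht2 : ∀ {a b : (_root_.Stk.sieveCat T).obj} (m : a ⟶ b),
        t a ≫ 𝒵.p.map (H.map (lm m)) = m.hom.left ≫ t b := by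
      intro a b m
      refine sc_ext (h𝒳.1.isStronglyCartesian (c.map (lo b))) ?_ ?_
      · rw [Functor.map_comp, Functor.map_comp, ht, ht, hm,
          show (lm m).hom.left = 𝒳.p.map m.hom.left from rfl]
        simp
      · rw [Category.assoc, cn, ht', Category.assoc, ht', Over.w m.hom]
    have km : ∀ {a b : (_root_.Stk.sieveCat T).obj} (m : a ⟶ b), ∃ χ : Z a ⟶ Z b,
        𝒵.p.map χ = eqToHom (eZ a) ≫ m.hom.left ≫ eqToHom (eZ b).symm ∧ χ ≫ l b = l a ≫ H.map (lm m) :=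
      fun {a b} m => sc_exists (h𝒵.1.isStronglyCartesian (l b)) _ _ (by
        rw [Functor.map_comp, hl, hl]
        simp only [Category.assoc]
        refine Eq.trans ?_ (congrArg (eqToHom (eZ a) ≫ ·) (ht2 m).symm)
        simp)
    choose χ hχ hχ' using @km
    let K : (_root_.Stk.sieveCat T).obj ⥤ 𝒵.obj :=
      { obj := Z
        map := fun m => χ m
        map_id := fun a => by
          refine sc_ext (h𝒵.1.isStronglyCartesian (l a)) ?_ ?_
          · rw [hχ, 𝒵.p.map_id]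
            exact ((congrArg (eqToHom (eZ a) ≫ ·) (Category.id_comp _)).trans (eqToHom_trans _ _)).trans
              (eqToHom_refl _ _)
          · rw [hχ', Category.id_comp]
            have : lm (𝟙 a) = 𝟙 (lo a) := ObjectProperty.hom_ext _ (Over.OverMorphism.ext (𝒳.p.map_id _))
            rw [this, H.toFunctor.map_id, Category.comp_id]
        map_comp := fun {a b d} m n => by
          refine sc_ext (h𝒵.1.isStronglyCartesian (l d)) ?_ ?_
          · rw [Functor.map_comp, hχ, hχ, hχ]; simp [show (m ≫ n).hom.left = m.hom.left ≫ n.hom.left from rfl]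
          · have : lm (m ≫ n) = lm m ≫ lm n := ObjectProperty.hom_ext _ (Over.OverMorphism.ext
              (𝒳.p.map_comp m.hom.left n.hom.left))
            rw [hχ', Category.assoc, hχ', ← Category.assoc, hχ', Category.assoc, this, H.toFunctor.map_comp] }
    let H' : _root_.Stk.sieveCat T ⥤ᵇ 𝒵 :=
      { toFunctor := K, w := CategoryTheory.Functor.ext eZ fun a b m => hχ m }
    obtain ⟨c'⟩ := (h𝒵.2 T hT).2 H'
    have hmem : ∀ a : (_root_.Stk.sieveCat R).obj, T (c.map a) := fun a => by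
      show R (𝒳.p.map (c.map a) ≫ eqToHom c.over)
      rw [cp]
      simpa using R.downward_closed a.property (eqToHom (ho a))
    let bb : (_root_.Stk.sieveCat R).obj → (_root_.Stk.sieveCat T).obj := fun a => ⟨Over.mk (c.map a), hmem a⟩
    let m0 : ∀ a, a ⟶ lo (bb a) := fun a => ObjectProperty.homMk (Over.homMk (eqToHom (ho a).symm) (by
      show eqToHom (ho a).symm ≫ 𝒳.p.map (c.map a) ≫ eqToHom c.over = a.obj.hom
      rw [cp]; simp))
    have hm0 : ∀ a, 𝒵.p.map (H.map (m0 a)) = t (bb a) := by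
      intro a
      refine sc_ext (h𝒳.1.isStronglyCartesian (c.map (lo (bb a)))) ?_ ?_
      · rw [hm, ht, show (m0 a).hom.left = eqToHom (ho a).symm from rfl]; simp [bb]
      · rw [cn, ht']; rfl
    have kκ : ∀ a, ∃ κ : H.obj a ⟶ Z (bb a), 𝒵.p.map κ = eqToHom (eZ (bb a)).symm ∧
        κ ≫ l (bb a) = H.map (m0 a) := fun a =>
      sc_exists (h𝒵.1.isStronglyCartesian (l (bb a))) _ _ (by rw [hl, hm0]; simp)
    choose κ hκ hκ' using kκ
    refine ⟨⟨c'.pt, (congrArg 𝒳.p.obj c'.over).trans c.over, fun a => κ a ≫ c'.map (bb a), fun a => ?_,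
      fun {a b} k => ?_⟩⟩
    · show 𝒳.p.map (𝒵.p.map (κ a ≫ c'.map (bb a))) = _
      rw [Functor.map_comp, hκ, c'.proj]
      simp [bb, eqToHom_map, cp]
    · let n : bb a ⟶ bb b := ObjectProperty.homMk (Over.homMk (𝒵.p.map (H.map k)) (cn k))
      have e : H.map k ≫ κ b = κ a ≫ χ n := by
        refine sc_ext (h𝒵.1.isStronglyCartesian (l (bb b))) ?_ ?_
        · rw [Functor.map_comp, Functor.map_comp, hκ, hκ, hχ,
            show n.hom.left = 𝒵.p.map (H.map k) from rfl]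
          simp
        · rw [Category.assoc, hκ', Category.assoc, hχ', ← Category.assoc (κ a), hκ', ← H.toFunctor.map_comp,
            ← H.toFunctor.map_comp]
          congr 1
          apply ObjectProperty.hom_ext
          apply Over.OverMorphism.ext
          show k.hom.left ≫ eqToHom (ho b).symm = eqToHom (ho a).symm ≫ 𝒳.p.map (𝒵.p.map (H.map k))
          rw [hm]; simp
      rw [← Category.assoc, e, Category.assoc]
      exact congrArg (κ a ≫ ·) (c'.natural n)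

end Groth.Agent.H7.Stk.Glue
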