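import Groth.Agent.H7.Stk.Glue
import Groth.Agent.Lead.FibCat.Setoid

/-! Stacks: fibre products, invariance under equivalences, locally essentially surjective functors. -/

set_option autoImplicit false
set_option backward.isDefEq.respectTransparency false
set_option backward.isDefEq.respectTransparency.types false

universe v₂ v₃ v₄ u₂ u₃ u₄ v u

open CategoryTheory CategoryTheory.Functor FibCat
open Groth.Agent.LeadFibCat

namespace Groth.Agent.H7.Stk.Glue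

variable {C : Type u} [Category.{v} C] {𝒳 : BasedCategory.{v₂, u₂} C} {𝒴 : BasedCategory.{v₃, u₃} C}
  {𝒮 : BasedCategory.{v₄, u₄} C} {U : C} {R : Sieve U}

/-- any lift over an arrow of `R` gives a family: the value at `φ` -/
theorem mem_congr {z x : 𝒳.obj} {φ : z ⟶ x} {e : 𝒳.p.obj x = U} {V : C} {f : V ⟶ U} (h : 𝒳.p.obj z = V)
    (hf : 𝒳.p.map φ ≫ eqToHom e = eqToHom h ≫ f) (hR : R f) : R (𝒳.p.map φ ≫ eqToHom e) := by
  rw [hf]; exact R.downward_closed hR _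

theorem map_mem (F : 𝒳 ⥤ᵇ 𝒮) {z x : 𝒳.obj} (φ : z ⟶ x) (hx : 𝒳.p.obj x = U)
    (h : R (𝒳.p.map φ ≫ eqToHom hx)) : R (𝒮.p.map (F.map φ) ≫ eqToHom ((pobj F x).trans hx)) := by
  rw [pmap]; simpa using R.downward_closed h (eqToHom (pobj F z))

/-- a lift of a morphism of the base through a functor over the base -/
theorem lift_img (h𝒳 : IsFibGrpd 𝒳.p) (h𝒮 : IsFibGrpd 𝒮.p) (F : 𝒳 ⥤ᵇ 𝒮) {x : 𝒳.obj} {w : 𝒮.obj}
    (ψ : w ⟶ F.obj x) : ∃ (z : 𝒳.obj) (φ : z ⟶ x) (t : w ≅ F.obj z), Vert 𝒮.p t.hom ∧ t.hom ≫ F.map φ = ψ := by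
  obtain ⟨z, φ, e, he⟩ := exists_lift' h𝒳 (𝒮.p.map ψ ≫ eqToHom (pobj F x))
  obtain ⟨t, h1, h2⟩ := sc_iso (h𝒮.isStronglyCartesian ψ) (h𝒮.isStronglyCartesian (F.map φ))
    ((pobj F z).trans e).symm (by rw [pmap, he]; simp)
  exact ⟨z, φ, t, h1, h2⟩

section FP

variable {F : 𝒳 ⥤ᵇ 𝒮} {G : 𝒴 ⥤ᵇ 𝒮}

theorem snd_map {x y : (fp F G).obj} (f : x ⟶ y) : 𝒴.p.map f.hom.snd =
    eqToHom (fp_snd_obj x) ≫ 𝒳.p.map f.hom.fst ≫ eqToHom (fp_snd_obj y).symm := fp_snd_map f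

theorem comp_fst {x y z : (fp F G).obj} (f : x ⟶ y) (g : y ⟶ z) : (f ≫ g).hom.fst = f.hom.fst ≫ g.hom.fst :=
  rfl

theorem comp_snd {x y z : (fp F G).obj} (f : x ⟶ y) (g : y ⟶ z) : (f ≫ g).hom.snd = f.hom.snd ≫ g.hom.snd :=
  rfl

/-- the first projection of a descent datum -/
abbrev fstD (H : _root_.Stk.sieveCat R ⥤ᵇ fp F G) : _root_.Stk.sieveCat R ⥤ᵇ 𝒳 :=
  BasedFunctor.comp H (fpFst F G)

/-- the second projection of a descent datum -/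
abbrev sndD (H : _root_.Stk.sieveCat R ⥤ᵇ fp F G) : _root_.Stk.sieveCat R ⥤ᵇ 𝒴 :=
  BasedFunctor.comp H (fpSnd F G)

theorem homGlue_fp (h𝒳f : IsFibGrpd 𝒳.p) (h𝒴f : IsFibGrpd 𝒴.p) (h𝒮f : IsFibGrpd 𝒮.p)
    (h𝒳 : HomGlue 𝒳.p R) (h𝒴 : HomGlue 𝒴.p R) (h𝒮 : HomGlue 𝒮.p R) :
    HomGlue (fp F G).p R := by
  intro x y hx hy M hM hMn
  have hfib := isFibGrpd_fp (F := F) (G := G) h𝒳f h𝒴f h𝒮f
  change 𝒳.p.obj x.obj.fst = U at hx
  change 𝒳.p.obj y.obj.fst = U at hy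
  have hM' : ∀ ⦃z : (fp F G).obj⦄ (φ : z ⟶ x) (h : R (𝒳.p.map φ.hom.fst ≫ eqToHom hx)),
      𝒳.p.map (M φ h).hom.fst = 𝒳.p.map φ.hom.fst ≫ eqToHom (hx.trans hy.symm) := hM
  have hx2 : 𝒴.p.obj x.obj.snd = U := (fp_snd_obj x).trans hx
  have hy2 : 𝒴.p.obj y.obj.snd = U := (fp_snd_obj y).trans hy
  -- lifts of morphisms of the components
  have l1 : ∀ ⦃z : 𝒳.obj⦄ (φ : z ⟶ x.obj.fst), R (𝒳.p.map φ ≫ eqToHom hx) →
      ∃ (z' : (fp F G).obj) (ψ : z' ⟶ x) (hψ : R (𝒳.p.map ψ.hom.fst ≫ eqToHom hx))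
        (t : z ⟶ z'.obj.fst), Vert 𝒳.p t ∧ t ≫ ψ.hom.fst = φ := by
    intro z φ hφ
    obtain ⟨z', ψ, e, he⟩ := exists_lift' hfib (x := x) (V := 𝒳.p.obj z) (𝒳.p.map φ)
    change 𝒳.p.obj z'.obj.fst = _ at e
    change 𝒳.p.map ψ.hom.fst = eqToHom e ≫ _ at he
    obtain ⟨t, h1, h2⟩ := sc_exists (h𝒳f.isStronglyCartesian ψ.hom.fst) φ (eqToHom e.symm) (by
      rw [he]; simp)
    exact ⟨z', ψ, by rw [he, Category.assoc]; exact R.downward_closed hφ _, t, ⟨e.symm, h1⟩, h2⟩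
  have l2 : ∀ ⦃z : 𝒴.obj⦄ (φ : z ⟶ x.obj.snd), R (𝒴.p.map φ ≫ eqToHom hx2) →
      ∃ (z' : (fp F G).obj) (ψ : z' ⟶ x) (hψ : R (𝒳.p.map ψ.hom.fst ≫ eqToHom hx))
        (t : z ⟶ z'.obj.snd), Vert 𝒴.p t ∧ t ≫ ψ.hom.snd = φ := by
    intro z φ hφ
    obtain ⟨z', ψ, e, he⟩ := exists_lift' hfib (x := x) (V := 𝒴.p.obj z)
      (𝒴.p.map φ ≫ eqToHom (fp_snd_obj x))
    change 𝒳.p.obj z'.obj.fst = _ at e
    change 𝒳.p.map ψ.hom.fst = eqToHom e ≫ _ at he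
    obtain ⟨t, h1, h2⟩ := sc_exists (h𝒴f.isStronglyCartesian ψ.hom.snd) φ
      (eqToHom ((fp_snd_obj z').trans e).symm) (by rw [snd_map, he]; simp)
    refine ⟨z', ψ, ?_, t, ⟨_, h1⟩, h2⟩
    rw [he]
    simpa using R.downward_closed hφ (eqToHom e)
  choose z1 ψ1 hψ1 t1 ht1 ht1' using l1
  choose z2 ψ2 hψ2 t2 ht2 ht2' using l2
  -- the first component
  obtain ⟨θ1, ⟨hv1, hθ1⟩, hu1⟩ := h𝒳 x.obj.fst y.obj.fst hx hy
    (fun z φ h => t1 φ h ≫ (M (ψ1 φ h) (hψ1 φ h)).hom.fst)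
    (fun z φ h => by
      rw [Functor.map_comp, hM']
      conv_rhs => rw [← ht1' φ h, Functor.map_comp]
      simp)
    (fun z z' χ φ h h' => by
      obtain ⟨c, hc, hc'⟩ := sc_exists (hfib.isStronglyCartesian (ψ1 φ h)) (ψ1 (χ ≫ φ) h')
        (eqToHom (ht1 _ h').1.symm ≫ 𝒳.p.map χ ≫ eqToHom (ht1 φ h).1) (by
          show _ ≫ 𝒳.p.map (ψ1 φ h).hom.fst = 𝒳.p.map (ψ1 (χ ≫ φ) h').hom.fst
          have e1 := congrArg 𝒳.p.map (ht1' (χ ≫ φ) h')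
          conv_rhs at e1 => rw [← ht1' φ h]
          simp only [Functor.map_comp, (ht1 _ h').map_eq, (ht1 φ h).map_eq] at e1
          rw [← cancel_epi (eqToHom (ht1 (χ ≫ φ) h').1), e1]; simp)
      have e2 : t1 _ h' ≫ c.hom.fst = χ ≫ t1 φ h := by
        refine sc_ext (h𝒳f.isStronglyCartesian (ψ1 φ h).hom.fst) ?_ ?_
        · rw [Functor.map_comp, Functor.map_comp, (ht1 _ h').map_eq, (ht1 φ h).map_eq,
            show 𝒳.p.map c.hom.fst = _ from hc]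
          simp
        · have e3 : c.hom.fst ≫ (ψ1 φ h).hom.fst = (ψ1 (χ ≫ φ) h').hom.fst :=
            by rw [← comp_fst, hc']
          rw [Category.assoc, e3, ht1', Category.assoc, ht1']
      have e4 : (M (ψ1 (χ ≫ φ) h') (hψ1 _ h')).hom.fst = c.hom.fst ≫ (M (ψ1 φ h) (hψ1 φ h)).hom.fst := by
        have := hMn c (ψ1 φ h) (hψ1 φ h) (by rw [hc']; exact hψ1 _ h')
        simp only [hc'] at this
        rw [this]; rfl
      rw [e4, reassoc_of% e2])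
  obtain ⟨θ2, ⟨hv2, hθ2⟩, hu2⟩ := h𝒴 x.obj.snd y.obj.snd hx2 hy2
    (fun z φ h => t2 φ h ≫ (M (ψ2 φ h) (hψ2 φ h)).hom.snd)
    (fun z φ h => by
      rw [Functor.map_comp, snd_map, hM']
      conv_rhs => rw [← ht2' φ h, Functor.map_comp, snd_map]
      simp)
    (fun z z' χ φ h h' => by
      obtain ⟨c, hc, hc'⟩ := sc_exists (hfib.isStronglyCartesian (ψ2 φ h)) (ψ2 (χ ≫ φ) h')
        (eqToHom ((fp_snd_obj _).symm.trans (ht2 _ h').1.symm) ≫ 𝒴.p.map χ ≫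
          eqToHom ((ht2 φ h).1.trans (fp_snd_obj _))) (by
          show _ ≫ 𝒳.p.map (ψ2 φ h).hom.fst = 𝒳.p.map (ψ2 (χ ≫ φ) h').hom.fst
          have e1 := congrArg 𝒴.p.map (ht2' (χ ≫ φ) h')
          conv_rhs at e1 => rw [← ht2' φ h]
          simp only [Functor.map_comp, (ht2 _ h').map_eq, (ht2 φ h).map_eq, snd_map] at e1
          rw [← cancel_epi (eqToHom ((ht2 _ h').1.trans (fp_snd_obj _))),
            ← cancel_mono (eqToHom (fp_snd_obj x).symm)]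
          simp only [Category.assoc, eqToHom_trans_assoc] at e1 ⊢
          rw [e1]; simp)
      have e2 : t2 _ h' ≫ c.hom.snd = χ ≫ t2 φ h := by
        refine sc_ext (h𝒴f.isStronglyCartesian (ψ2 φ h).hom.snd) ?_ ?_
        · rw [Functor.map_comp, Functor.map_comp, (ht2 _ h').map_eq, (ht2 φ h).map_eq, snd_map,
            show 𝒳.p.map c.hom.fst = _ from hc]
          simp
        · have e3 : c.hom.snd ≫ (ψ2 φ h).hom.snd = (ψ2 (χ ≫ φ) h').hom.snd :=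
            by rw [← comp_snd, hc']
          rw [Category.assoc, e3, ht2', Category.assoc, ht2']
      have e4 : (M (ψ2 (χ ≫ φ) h') (hψ2 _ h')).hom.snd = c.hom.snd ≫ (M (ψ2 φ h) (hψ2 φ h)).hom.snd := by
        have := hMn c (ψ2 φ h) (hψ2 φ h) (by rw [hc']; exact hψ2 _ h')
        simp only [hc'] at this
        rw [this]; rfl
      rw [e4, reassoc_of% e2])
  -- the values on morphisms of the fibre product
  have v1 : ∀ ⦃z : (fp F G).obj⦄ (φ : z ⟶ x) (h : R (𝒳.p.map φ.hom.fst ≫ eqToHom hx)),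
      φ.hom.fst ≫ θ1 = (M φ h).hom.fst := by
    intro z φ h
    have h0 : R (𝒳.p.map φ.hom.fst ≫ eqToHom hx) := h
    rw [hθ1 φ.hom.fst h0]
    obtain ⟨c, hc, hc'⟩ := sc_exists (hfib.isStronglyCartesian (ψ1 φ.hom.fst h0)) φ
      (eqToHom (ht1 φ.hom.fst h0).1) (by
        show _ = 𝒳.p.map φ.hom.fst
        conv_rhs => rw [← ht1' φ.hom.fst h0, Functor.map_comp, (ht1 _ h0).map_eq]
        rfl)
    have e2 : c.hom.fst = t1 φ.hom.fst h0 := by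
      refine sc_ext (h𝒳f.isStronglyCartesian (ψ1 φ.hom.fst h0).hom.fst) ?_ ?_
      · rw [(ht1 _ h0).map_eq]; exact hc
      · rw [ht1']; exact by rw [← comp_fst, hc']
    have := hMn c (ψ1 φ.hom.fst h0) (hψ1 _ h0) (by rw [hc']; exact h)
    simp only [hc'] at this
    rw [this, ← e2]; rfl
  have v2 : ∀ ⦃z : (fp F G).obj⦄ (φ : z ⟶ x) (h : R (𝒳.p.map φ.hom.fst ≫ eqToHom hx)),
      φ.hom.snd ≫ θ2 = (M φ h).hom.snd := by
    intro z φ h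
    have h0 : R (𝒴.p.map φ.hom.snd ≫ eqToHom hx2) := by
      rw [snd_map]; simpa using R.downward_closed h (eqToHom (fp_snd_obj z))
    rw [hθ2 φ.hom.snd h0]
    obtain ⟨c, hc, hc'⟩ := sc_exists (hfib.isStronglyCartesian (ψ2 φ.hom.snd h0)) φ
      (eqToHom ((fp_snd_obj z).symm.trans ((ht2 φ.hom.snd h0).1.trans (fp_snd_obj _)))) (by
        show _ ≫ 𝒳.p.map (ψ2 φ.hom.snd h0).hom.fst = 𝒳.p.map φ.hom.fst
        have e1 := congrArg 𝒴.p.map (ht2' φ.hom.snd h0)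
        simp only [Functor.map_comp, (ht2 _ h0).map_eq, snd_map] at e1
        rw [← cancel_epi (eqToHom (fp_snd_obj z)), ← cancel_mono (eqToHom (fp_snd_obj x).symm)]
        simp only [Category.assoc, eqToHom_trans_assoc] at e1 ⊢
        rw [e1])
    have e2 : c.hom.snd = t2 φ.hom.snd h0 := by
      refine sc_ext (h𝒴f.isStronglyCartesian (ψ2 φ.hom.snd h0).hom.snd) ?_ ?_
      · rw [(ht2 _ h0).map_eq, snd_map, show 𝒳.p.map c.hom.fst = _ from hc]; simp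
      · rw [ht2']; exact by rw [← comp_snd, hc']
    have := hMn c (ψ2 φ.hom.snd h0) (hψ2 _ h0) (by rw [hc']; exact h)
    simp only [hc'] at this
    rw [this, ← e2]; rfl
  have w : F.map θ1 ≫ y.obj.iso.hom = x.obj.iso.hom ≫ G.map θ2 := by
    refine h𝒮.ext ((pobj F _).trans hx) (hv1.map.comp (fp_vert y)) ((fp_vert x).comp hv2.map)
      fun w ψ hψ => ?_
    obtain ⟨z0, φ0, t0, h0, h0'⟩ := lift_img h𝒳f h𝒮f F ψ
    have hφ0 : R (𝒳.p.map φ0 ≫ eqToHom hx) := by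
      rw [← h0', Functor.map_comp, h0.map_eq, pmap] at hψ
      simpa using R.downward_closed hψ (eqToHom ((h0.1).trans (pobj F z0)).symm)
    obtain ⟨z', φ, hφ, t, ht, ht'⟩ : ∃ (z' : (fp F G).obj) (ψ : z' ⟶ x)
      (_ : R (𝒳.p.map ψ.hom.fst ≫ eqToHom hx)) (t : z0 ⟶ z'.obj.fst), Vert 𝒳.p t ∧ t ≫ ψ.hom.fst = φ0 :=
      ⟨z1 φ0 hφ0, ψ1 φ0 hφ0, hψ1 φ0 hφ0, t1 φ0 hφ0, ht1 φ0 hφ0, ht1' φ0 hφ0⟩
    have e1 : F.map φ.hom.fst ≫ F.map θ1 ≫ y.obj.iso.hom =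
        F.map φ.hom.fst ≫ x.obj.iso.hom ≫ G.map θ2 := by
      rw [← Functor.map_comp_assoc, v1 φ hφ, (M φ hφ).hom.w, reassoc_of% φ.hom.w, ← Functor.map_comp,
        v2 φ hφ]
    rw [← h0', ← ht']
    simp only [Functor.map_comp, Category.assoc, e1]
  refine ⟨fpHom θ1 θ2 w, ⟨hv1, fun z φ h => fp_ext (v1 φ h) (v2 φ h)⟩, fun θ ⟨hθv, hθ⟩ => ?_⟩
  refine fp_ext (hu1 θ.hom.fst ⟨hθv, fun z φ h => ?_⟩) (hu2 θ.hom.snd ⟨?_, fun z φ h => ?_⟩)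
  · show φ ≫ θ.hom.fst = t1 φ h ≫ (M (ψ1 φ h) (hψ1 φ h)).hom.fst
    rw [← hθ (ψ1 φ h) (hψ1 φ h), show (ψ1 φ h ≫ θ).hom.fst = (ψ1 φ h).hom.fst ≫ θ.hom.fst from rfl,
      ← Category.assoc, ht1']
  · obtain ⟨e, he⟩ : Vert (fp F G).p θ := hθv
    change 𝒳.p.obj x.obj.fst = 𝒳.p.obj y.obj.fst at e
    change 𝒳.p.map θ.hom.fst = eqToHom e at he
    exact ⟨((fp_snd_obj x).trans e).trans (fp_snd_obj y).symm, by rw [snd_map, he]; simp⟩
  · show φ ≫ θ.hom.snd = t2 φ h ≫ (M (ψ2 φ h) (hψ2 φ h)).hom.snd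
    rw [← hθ (ψ2 φ h) (hψ2 φ h), show (ψ2 φ h ≫ θ).hom.snd = (ψ2 φ h).hom.snd ≫ θ.hom.snd from rfl,
      ← Category.assoc, ht2']

theorem objGlue_fp (h𝒳f : IsFibGrpd 𝒳.p) (h𝒮f : IsFibGrpd 𝒮.p) (h𝒳 : ObjGlue 𝒳 R)
    (h𝒴 : ObjGlue 𝒴 R) (h𝒮 : HomGlue 𝒮.p R) : ObjGlue (fp F G) R := by
  intro H
  obtain ⟨c1⟩ := h𝒳 (fstD H)
  obtain ⟨c2⟩ := h𝒴 (sndD H)
  have key : ∀ ⦃w : 𝒮.obj⦄ (ψ : w ⟶ F.obj c1.pt), R (𝒮.p.map ψ ≫ eqToHom ((pobj F _).trans c1.over)) →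
      ∃ (a : (_root_.Stk.sieveCat R).obj) (t : w ⟶ F.obj (H.obj a).obj.fst), Vert 𝒮.p t ∧
        t ≫ F.map (c1.map a) = ψ := by
    intro w ψ hψ
    let a : (_root_.Stk.sieveCat R).obj := ⟨Over.mk (𝒮.p.map ψ ≫ eqToHom ((pobj F _).trans c1.over)), hψ⟩
    obtain ⟨t, h1, h2⟩ := sc_exists (h𝒮f.isStronglyCartesian (F.map (c1.map a))) ψ
      (eqToHom ((pobj F _).trans (pobj (fstD H) a)).symm) (by
        rw [pmap, c1.proj]; simp [a])
    exact ⟨a, t, ⟨_, h1⟩, h2⟩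
  choose A T hT hT' using key
  have hproj : ∀ a, 𝒮.p.map (F.map (c1.map a)) = eqToHom (pobj F _) ≫ eqToHom (pobj (fstD H) a) ≫
      a.obj.hom ≫ eqToHom ((pobj F _).trans c1.over).symm := fun a => by
    rw [pmap, c1.proj]; simp
  have hproj2 : ∀ a, 𝒮.p.map ((H.obj a).obj.iso.hom ≫ G.map (c2.map a)) =
      eqToHom (pobj F _) ≫ eqToHom (pobj (fstD H) a) ≫ a.obj.hom ≫
        eqToHom ((pobj G _).trans c2.over).symm := fun a => by
    rw [Functor.map_comp, (fp_vert (H.obj a)).map_eq, pmap, c2.proj]; simp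
  obtain ⟨θ, ⟨hθv, hθ⟩, -⟩ := h𝒮 (F.obj c1.pt) (G.obj c2.pt) ((pobj F _).trans c1.over)
    ((pobj G _).trans c2.over)
    (fun w ψ h => T ψ h ≫ (H.obj (A ψ h)).obj.iso.hom ≫ G.map (c2.map (A ψ h)))
    (fun w ψ h => by
      rw [Functor.map_comp, hproj2]
      conv_rhs => rw [← hT' ψ h, Functor.map_comp, hproj]
      simp)
    (fun w w' χ ψ h h' => by
      have e1 := congrArg 𝒮.p.map (hT' (χ ≫ ψ) h')
      conv_rhs at e1 => rw [← hT' ψ h]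
      simp only [Functor.map_comp, hproj, (hT _ h').map_eq, (hT ψ h).map_eq] at e1
      let g : (A (χ ≫ ψ) h').obj.left ⟶ (A ψ h).obj.left :=
        eqToHom ((hT _ h').1.trans ((pobj F _).trans (pobj (fstD H) _))).symm ≫ 𝒮.p.map χ ≫
          eqToHom ((hT ψ h).1.trans ((pobj F _).trans (pobj (fstD H) _)))
      let m : A (χ ≫ ψ) h' ⟶ A ψ h := ObjectProperty.homMk (Over.homMk g (by
        rw [← cancel_epi (eqToHom ((hT _ h').1.trans ((pobj F _).trans (pobj (fstD H) _)))),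
          ← cancel_mono (eqToHom ((pobj F _).trans c1.over).symm)]
        simp only [g, Category.assoc, eqToHom_trans_assoc, eqToHom_refl, Category.id_comp] at e1 ⊢
        rw [e1]))
      have e2 : T _ h' ≫ F.map (H.map m).hom.fst = χ ≫ T ψ h := by
        refine sc_ext (h𝒮f.isStronglyCartesian (F.map (c1.map (A ψ h)))) ?_ ?_
        · rw [Functor.map_comp, Functor.map_comp, (hT _ h').map_eq, (hT ψ h).map_eq, pmap,
            show 𝒳.p.map (H.map m).hom.fst = _ from pmap (fstD H) m,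
            show (_root_.Stk.sieveCat R).p.map m = g from rfl]
          simp [g]
        · rw [Category.assoc, ← Functor.map_comp,
            show (H.map m).hom.fst ≫ c1.map (A ψ h) = _ from c1.natural m, hT', Category.assoc, hT']
      have e3 : (H.map m).hom.snd ≫ c2.map (A ψ h) = c2.map (A (χ ≫ ψ) h') := c2.natural m
      rw [← e3, Functor.map_comp, ← reassoc_of% (H.map m).hom.w, reassoc_of% e2])
  haveI : IsIso θ := isIso_of_vert h𝒮f hθv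
  have w : ∀ a, F.map (c1.map a) ≫ θ = (H.obj a).obj.iso.hom ≫ G.map (c2.map a) := by
    intro a
    have h : R (𝒮.p.map (F.map (c1.map a)) ≫ eqToHom ((pobj F _).trans c1.over)) := by
      rw [hproj]; simpa using R.downward_closed a.property (eqToHom (pobj F (H.obj a).obj.fst) ≫ eqToHom (pobj (fstD H) a))
    rw [hθ _ h]
    have e1 := congrArg 𝒮.p.map (hT' (F.map (c1.map a)) h)
    simp only [Functor.map_comp, hproj, (hT _ h).map_eq] at e1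
    let g : a.obj.left ⟶ (A (F.map (c1.map a)) h).obj.left :=
      eqToHom (((pobj F _).trans (pobj (fstD H) a)).symm.trans
        ((hT _ h).1.trans ((pobj F _).trans (pobj (fstD H) _))))
    let m : a ⟶ A (F.map (c1.map a)) h := ObjectProperty.homMk (Over.homMk g (by
        rw [← cancel_epi (eqToHom ((pobj F _).trans (pobj (fstD H) a))),
          ← cancel_mono (eqToHom ((pobj F _).trans c1.over).symm)]
        simp only [g, Category.assoc, eqToHom_trans_assoc] at e1 ⊢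
        rw [e1]))
    have e2 : T _ h = F.map (H.map m).hom.fst := by
      refine sc_ext (h𝒮f.isStronglyCartesian (F.map (c1.map (A _ h)))) ?_ ?_
      · rw [(hT _ h).map_eq, pmap, show 𝒳.p.map (H.map m).hom.fst = _ from pmap (fstD H) m,
          show (_root_.Stk.sieveCat R).p.map m = g from rfl]
        simp [g]
      · rw [hT', ← Functor.map_comp,
          show (H.map m).hom.fst ≫ c1.map (A _ h) = _ from c1.natural m]
    have e3 : (H.map m).hom.snd ≫ c2.map (A _ h) = c2.map a := c2.natural m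
    rw [← e3, Functor.map_comp, ← reassoc_of% (H.map m).hom.w, e2]
  refine ⟨⟨fpMk c1.pt c2.pt (asIso θ) hθv, c1.over, fun a => fpHom (c1.map a) (c2.map a) (w a),
    fun a => c1.proj a, fun {a b} m => fp_ext (c1.natural m) (c2.natural m)⟩⟩

theorem isStack_fp {J : GrothendieckTopology C} (h𝒳 : _root_.Stk.IsStack J 𝒳)
    (h𝒴 : _root_.Stk.IsStack J 𝒴) (h𝒮 : _root_.Stk.IsPrestack J 𝒮) :
    _root_.Stk.IsStack J (fp F G) := by
  rw [stack_iff] at h𝒳 h𝒴 ⊢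
  rw [prestack_iff] at h𝒮
  exact ⟨isFibGrpd_fp h𝒳.1 h𝒴.1 h𝒮.1, fun U R hR =>
    ⟨homGlue_fp h𝒳.1 h𝒴.1 h𝒮.1 (h𝒳.2 R hR).1 (h𝒴.2 R hR).1 (h𝒮.2 R hR),
      objGlue_fp h𝒳.1 h𝒮.1 (h𝒳.2 R hR).2 (h𝒴.2 R hR).2 (h𝒮.2 R hR)⟩⟩

theorem isFibSetoid_fp' (h𝒳 : IsFibSetoid 𝒳.p) (h𝒴 : IsFibSetoid 𝒴.p) (h𝒮 : IsFibGrpd 𝒮.p) :
    IsFibSetoid (fp F G).p :=
  ⟨isFibGrpd_fp h𝒳.1 h𝒴.1 h𝒮, fun U a b => ⟨fun φ ψ => by
    apply Subtype.ext
    have h2 : ∀ χ : a ⟶ b, Vert 𝒴.p χ.1.hom.snd := fun χ => by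
      obtain ⟨e, he⟩ : Vert (fp F G).p χ.1 := Vert.of_lift χ.2
      change 𝒳.p.obj a.1.obj.fst = 𝒳.p.obj b.1.obj.fst at e
      change 𝒳.p.map χ.1.hom.fst = eqToHom e at he
      exact ⟨((fp_snd_obj a.1).trans e).trans (fp_snd_obj b.1).symm, by rw [snd_map, he]; simp⟩
    refine fp_ext ?_ ?_
    · have := (h𝒳.2 U) ⟨a.1.obj.fst, a.2⟩ ⟨b.1.obj.fst, b.2⟩
      exact congrArg Subtype.val (@Subsingleton.elim _ this ⟨φ.1.hom.fst, (Vert.of_lift φ.2 : Vert (fp F G).p φ.1).elim (fun e he => Vert.lift (p := 𝒳.p) ⟨e, he⟩ a.2)⟩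
        ⟨ψ.1.hom.fst, (Vert.of_lift ψ.2 : Vert (fp F G).p ψ.1).elim (fun e he => Vert.lift (p := 𝒳.p) ⟨e, he⟩ a.2)⟩)
    · have := (h𝒴.2 U) ⟨a.1.obj.snd, (fp_snd_obj a.1).trans a.2⟩ ⟨b.1.obj.snd, (fp_snd_obj b.1).trans b.2⟩
      exact congrArg Subtype.val (@Subsingleton.elim _ this
        ⟨φ.1.hom.snd, (h2 φ).lift ((fp_snd_obj a.1).trans a.2)⟩
        ⟨ψ.1.hom.snd, (h2 ψ).lift ((fp_snd_obj a.1).trans a.2)⟩)⟩⟩

end FP

end Groth.Agent.H7.Stk.Glue
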