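import Groth.Prelude.Def_AlgSt
import Groth.Agent.Lead.FibCat.Basic

/-! The stack conditions of `Stk` in terms of gluing of vertical morphisms and of cocones. -/

set_option autoImplicit false
set_option backward.isDefEq.respectTransparency false
set_option backward.isDefEq.respectTransparency.types false

universe v₂ v₃ v₄ u₂ u₃ u₄ v u

open CategoryTheory CategoryTheory.Functor FibCat
open Groth.Agent.LeadFibCat

namespace Groth.Agent.H7.Stk.Glue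

section Based

variable {C : Type u} [Category.{v} C] {𝒳 : BasedCategory.{v₂, u₂} C} {𝒴 : BasedCategory.{v₃, u₃} C}

/-- constructor for functors over the base -/
def mkB {𝒲 : BasedCategory.{v₂, u₂} C} (F : 𝒲.obj ⥤ 𝒴.obj) (e : ∀ a, 𝒴.p.obj (F.obj a) = 𝒲.p.obj a)
    (h : ∀ {a b : 𝒲.obj} (m : a ⟶ b), 𝒴.p.map (F.map m) = eqToHom (e a) ≫ 𝒲.p.map m ≫ eqToHom (e b).symm) :
    𝒲 ⥤ᵇ 𝒴 where
  toFunctor := F
  w := CategoryTheory.Functor.ext e fun _ _ m => h m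

/-- constructor for 2-morphisms over the base -/
def natMk {F G : 𝒳 ⥤ᵇ 𝒴} (app : ∀ a, F.obj a ⟶ G.obj a)
    (hn : ∀ {a b : 𝒳.obj} (m : a ⟶ b), F.map m ≫ app b = app a ≫ G.map m)
    (hv : ∀ a, Vert 𝒴.p (app a)) : F ⟶ G :=
  ⟨{ app := app, naturality := fun _ _ m => hn m }, fun a => (hv a).lift (pobj F a)⟩

theorem app_vert {F G : 𝒳 ⥤ᵇ 𝒴} (α : F ⟶ G) (a : 𝒳.obj) : Vert 𝒴.p (α.toNatTrans.app a) :=
  Vert.of_lift (BasedNatTrans.isHomLift α rfl)

theorem nat_ext {F G : 𝒳 ⥤ᵇ 𝒴} {α β : F ⟶ G} (h : ∀ a, α.toNatTrans.app a = β.toNatTrans.app a) : α = β := by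
  apply BasedNatTrans.ext
  apply NatTrans.ext
  funext a
  exact h a

theorem nat_naturality {F G : 𝒳 ⥤ᵇ 𝒴} (α : F ⟶ G) {a b : 𝒳.obj} (m : a ⟶ b) :
    F.map m ≫ α.toNatTrans.app b = α.toNatTrans.app a ≫ G.map m :=
  α.toNatTrans.naturality m

theorem comp_app' {F G H : 𝒳 ⥤ᵇ 𝒴} (α : F ⟶ G) (β : G ⟶ H) (a : 𝒳.obj) :
    (α ≫ β).toNatTrans.app a = α.toNatTrans.app a ≫ β.toNatTrans.app a := rfl

theorem id_app' {F : 𝒳 ⥤ᵇ 𝒴} (a : 𝒳.obj) : (BasedNatTrans.toNatTrans (𝟙 F)).app a = 𝟙 (F.obj a) := rfl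

end Based

variable {C : Type u} [Category.{v} C] {𝒳 : BasedCategory.{v₂, u₂} C} {U : C}

/-- the morphism to the identity -/
abbrev top (U : C) : (overCat U).obj := Over.mk (𝟙 U)

/-- the unique morphism to `top U` -/
abbrev toT (u : Over U) : u ⟶ Over.mk (𝟙 U) := Over.homMk u.hom (Category.comp_id _)

theorem toT_comp {u u' : Over U} (m : u ⟶ u') : m ≫ toT u' = toT u := Over.OverMorphism.ext (Over.w m)

theorem pmap_toT (G : overCat U ⥤ᵇ 𝒳) (u : Over U) :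
    𝒳.p.map (G.map (toT u)) = eqToHom (pobj G u) ≫ u.hom ≫ eqToHom (pobj G (Over.mk (𝟙 U))).symm := by
  rw [pmap]; rfl

theorem map_toT {G : overCat U ⥤ᵇ 𝒳} {u u' : Over U} (m : u ⟶ u') :
    G.map m ≫ G.map (toT u') = G.map (toT u) := by
  rw [← G.toFunctor.map_comp, toT_comp]

theorem over_full_ext (h : IsFibGrpd 𝒳.p) {G H : overCat U ⥤ᵇ 𝒳} (α β : G ⟶ H)
    (e : α.toNatTrans.app (Over.mk (𝟙 U)) = β.toNatTrans.app (Over.mk (𝟙 U))) : α = β := by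
  refine nat_ext fun u => sc_ext (h.isStronglyCartesian (H.map (toT u))) ?_ ?_
  · rw [(app_vert α u).map_eq, (app_vert β u).map_eq]
  · rw [← nat_naturality, ← nat_naturality, e]

theorem over_full (h : IsFibGrpd 𝒳.p) {G H : overCat U ⥤ᵇ 𝒳}
    (θ : G.obj (Over.mk (𝟙 U)) ⟶ H.obj (Over.mk (𝟙 U))) (hθ : Vert 𝒳.p θ) :
    ∃ α : G ⟶ H, α.toNatTrans.app (Over.mk (𝟙 U)) = θ := by
  have key : ∀ u : Over U, ∃ χ : G.obj u ⟶ H.obj u, Vert 𝒳.p χ ∧ χ ≫ H.map (toT u) = G.map (toT u) ≫ θ := by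
    intro u
    obtain ⟨χ, h1, h2⟩ := sc_exists (h.isStronglyCartesian (H.map (toT u)))
      (G.map (toT u) ≫ θ) (eqToHom ((pobj G u).trans (pobj H u).symm))
      (by rw [Functor.map_comp, pmap, pmap, hθ.map_eq]; simp)
    exact ⟨χ, ⟨_, h1⟩, h2⟩
  choose χ hv hc using key
  refine ⟨natMk χ (fun {u u'} m => ?_) hv, ?_⟩
  · refine sc_ext (h.isStronglyCartesian (H.map (toT u'))) ?_ ?_
    · rw [Functor.map_comp, Functor.map_comp, (hv u).map_eq, (hv u').map_eq, pmap, pmap]; simp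
    · rw [Category.assoc, hc, ← Category.assoc, map_toT, Category.assoc, map_toT, hc]
  · show χ _ = θ
    have hm : toT (Over.mk (𝟙 U)) = 𝟙 (Over.mk (𝟙 U)) := Over.OverMorphism.ext rfl
    have := hc (Over.mk (𝟙 U))
    rw [hm, G.toFunctor.map_id, H.toFunctor.map_id, Category.id_comp, Category.comp_id] at this
    exact this

theorem over_ess (h : IsFibGrpd 𝒳.p) (x : 𝒳.obj) (hx : 𝒳.p.obj x = U) :
    ∃ (G : overCat U ⥤ᵇ 𝒳) (e : G.obj (Over.mk (𝟙 U)) ≅ x), Vert 𝒳.p e.hom := by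
  have key : ∀ u : Over U, ∃ (y : 𝒳.obj) (φ : y ⟶ x) (e : 𝒳.p.obj y = u.left),
      𝒳.p.map φ = eqToHom e ≫ u.hom ≫ eqToHom hx.symm :=
    fun u => exists_lift' h (u.hom ≫ eqToHom hx.symm)
  choose y φ ey hφ using key
  have kmap : ∀ {u u' : Over U} (m : u ⟶ u'), ∃ χ : y u ⟶ y u',
      𝒳.p.map χ = eqToHom (ey u) ≫ m.left ≫ eqToHom (ey u').symm ∧ χ ≫ φ u' = φ u := fun {u u'} m =>
    sc_exists (h.isStronglyCartesian (φ u')) (φ u) _ (by
      rw [hφ u', hφ u]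
      simp only [Category.assoc, eqToHom_trans_assoc, eqToHom_refl, Category.id_comp]
      rw [← Category.assoc m.left, Over.w m])
  choose F hF1 hF2 using @kmap
  let G : overCat U ⥤ᵇ 𝒳 :=
    { toFunctor :=
        { obj := y
          map := fun m => F m
          map_id := fun u => by
            refine sc_ext (h.isStronglyCartesian (φ u)) ?_ ((hF2 _).trans (Category.id_comp _).symm)
            rw [hF1, 𝒳.p.map_id]
            exact (congrArg (eqToHom (ey u) ≫ ·) (Category.id_comp _)).trans (eqToHom_trans _ _)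
          map_comp := fun {u u' u''} m n => by
            refine sc_ext (h.isStronglyCartesian (φ u'')) ?_ (by rw [Category.assoc, hF2, hF2, hF2])
            rw [hF1, 𝒳.p.map_comp, hF1, hF1]
            simp [show (m ≫ n).left = m.left ≫ n.left from rfl] }
      w := CategoryTheory.Functor.ext ey fun u u' m => hF1 m }
  have ho : Vert 𝒳.p (φ (Over.mk (𝟙 U))) := ⟨(ey _).trans hx.symm, by
    rw [hφ _]; exact (congrArg (eqToHom (ey _) ≫ ·) (Category.id_comp _)).trans (eqToHom_trans _ _)⟩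
  haveI : IsIso (φ (Over.mk (𝟙 U))) := isIso_of_vert h ho
  exact ⟨G, asIso (φ (Over.mk (𝟙 U))), ho⟩

/-- a vertical morphism out of an object over `U` is determined by, and can be glued from, its composites with
the morphisms lying over the arrows of `R` -/
def HomGlue (p : 𝒳.obj ⥤ C) {U : C} (R : Sieve U) : Prop :=
  ∀ (x y : 𝒳.obj) (hx : p.obj x = U) (hy : p.obj y = U)
    (M : ∀ ⦃z : 𝒳.obj⦄ (φ : z ⟶ x), R (p.map φ ≫ eqToHom hx) → (z ⟶ y)),
    (∀ ⦃z : 𝒳.obj⦄ (φ : z ⟶ x) (h : R (p.map φ ≫ eqToHom hx)),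
      p.map (M φ h) = p.map φ ≫ eqToHom (hx.trans hy.symm)) →
    (∀ ⦃z z' : 𝒳.obj⦄ (χ : z' ⟶ z) (φ : z ⟶ x) (h : R (p.map φ ≫ eqToHom hx))
      (h' : R (p.map (χ ≫ φ) ≫ eqToHom hx)), M (χ ≫ φ) h' = χ ≫ M φ h) →
    ∃! θ : x ⟶ y, Vert p θ ∧ ∀ ⦃z : 𝒳.obj⦄ (φ : z ⟶ x) (h : R (p.map φ ≫ eqToHom hx)), φ ≫ θ = M φ h

theorem HomGlue.ext {R : Sieve U} (hg : HomGlue 𝒳.p R) {x y : 𝒳.obj} (hx : 𝒳.p.obj x = U)
    {θ θ' : x ⟶ y} (hθ : Vert 𝒳.p θ) (hθ' : Vert 𝒳.p θ')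
    (he : ∀ ⦃z : 𝒳.obj⦄ (φ : z ⟶ x), R (𝒳.p.map φ ≫ eqToHom hx) → φ ≫ θ = φ ≫ θ') : θ = θ' := by
  have hy : 𝒳.p.obj y = U := hθ.1.symm.trans hx
  obtain ⟨t, -, ht⟩ := hg x y hx hy (fun z φ _ => φ ≫ θ) (fun z φ _ => by rw [Functor.map_comp, hθ.map_eq])
    (fun z z' χ φ _ _ => Category.assoc _ _ _)
  exact (ht θ ⟨hθ, fun z φ _ => rfl⟩).trans (ht θ' ⟨hθ', fun z φ h => (he φ h).symm⟩).symm

/-- cocone of a descent datum -/
structure Cocone {R : Sieve U} (H : _root_.Stk.sieveCat R ⥤ᵇ 𝒳) where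
  pt : 𝒳.obj
  over : 𝒳.p.obj pt = U
  map : ∀ a, H.obj a ⟶ pt
  proj : ∀ a : (_root_.Stk.sieveCat R).obj,
    𝒳.p.map (map a) = eqToHom (pobj H a) ≫ a.obj.hom ≫ eqToHom over.symm
  natural : ∀ {a b} (m : a ⟶ b), H.map m ≫ map b = map a

/-- every descent datum has a cocone -/
def ObjGlue (𝒳 : BasedCategory.{v₂, u₂} C) {U : C} (R : Sieve U) : Prop :=
  ∀ H : _root_.Stk.sieveCat R ⥤ᵇ 𝒳, Nonempty (Cocone H)

variable {R : Sieve U}

/-- the arrow of `R` attached to `φ` -/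
abbrev arr {z x : 𝒳.obj} (φ : z ⟶ x) (hx : 𝒳.p.obj x = U) (h : R (𝒳.p.map φ ≫ eqToHom hx)) :
    (_root_.Stk.sieveCat R).obj :=
  ⟨Over.mk (𝒳.p.map φ ≫ eqToHom hx), h⟩

theorem res_map_app {G H : overCat U ⥤ᵇ 𝒳} (α : G ⟶ H) (a : (_root_.Stk.sieveCat R).obj) :
    ((_root_.Stk.resSieve R 𝒳).map α).toNatTrans.app a = α.toNatTrans.app a.obj := rfl

theorem res_obj_obj (G : overCat U ⥤ᵇ 𝒳) (a : (_root_.Stk.sieveCat R).obj) :
    ((_root_.Stk.resSieve R 𝒳).obj G).obj a = G.obj a.obj := rfl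

theorem res_obj_map (G : overCat U ⥤ᵇ 𝒳) {a b : (_root_.Stk.sieveCat R).obj} (m : a ⟶ b) :
    ((_root_.Stk.resSieve R 𝒳).obj G).map m = G.map m.hom := rfl

/-- every morphism into the value at the top over an arrow of `R` factors through the restriction -/
theorem factor_toT (h : IsFibGrpd 𝒳.p) (G : overCat U ⥤ᵇ 𝒳) {z : 𝒳.obj} (φ : z ⟶ G.obj (Over.mk (𝟙 U)))
    (hR : R (𝒳.p.map φ ≫ eqToHom (pobj G (Over.mk (𝟙 U))))) :
    ∃ χ : z ⟶ G.obj (arr φ (pobj G (Over.mk (𝟙 U))) hR).obj,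
      𝒳.p.map χ = eqToHom (pobj G (arr φ (pobj G (Over.mk (𝟙 U))) hR).obj).symm ∧
        χ ≫ G.map (toT (arr φ (pobj G (Over.mk (𝟙 U))) hR).obj) = φ :=
  sc_exists (h.isStronglyCartesian _) φ _ (by rw [pmap_toT]; simp)

theorem homGlue_of_res (h : IsFibGrpd 𝒳.p) (hp : _root_.Stk.IsPrestackFor R 𝒳) : HomGlue 𝒳.p R := by
  intro x y hx hy M hM hMn
  obtain ⟨Gx, ex, hex⟩ := over_ess h x hx
  obtain ⟨Gy, ey, hey⟩ := over_ess h y hy
  haveI := hp.1
  haveI := hp.2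
  have hRa : ∀ a : (_root_.Stk.sieveCat R).obj,
      R (𝒳.p.map (Gx.map (toT a.obj) ≫ ex.hom) ≫ eqToHom hx) := fun a => by
    rw [Functor.map_comp, pmap_toT, hex.map_eq]
    simpa using R.downward_closed a.property (eqToHom (pobj Gx a.obj))
  have key : ∀ a : (_root_.Stk.sieveCat R).obj, ∃ χ : Gx.obj a.obj ⟶ Gy.obj a.obj, Vert 𝒳.p χ ∧
      χ ≫ Gy.map (toT a.obj) ≫ ey.hom = M (Gx.map (toT a.obj) ≫ ex.hom) (hRa a) := by
    intro a
    obtain ⟨χ, h1, h2⟩ := sc_exists (h.isStronglyCartesian (Gy.map (toT a.obj)))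
      (M (Gx.map (toT a.obj) ≫ ex.hom) (hRa a) ≫ ey.inv)
      (eqToHom ((pobj Gx a.obj).trans (pobj Gy a.obj).symm))
      (by rw [Functor.map_comp, hM, (Vert.symm hey).map_eq, Functor.map_comp, pmap_toT, pmap_toT,
            hex.map_eq]; simp)
    exact ⟨χ, ⟨_, h1⟩, by rw [← Category.assoc, h2]; simp⟩
  choose χ hv hc using key
  let β : (_root_.Stk.resSieve R 𝒳).obj Gx ⟶ (_root_.Stk.resSieve R 𝒳).obj Gy :=
    natMk χ (fun {a b} m => by
      rw [res_obj_map, res_obj_map]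
      refine sc_ext (h.isStronglyCartesian (Gy.map (toT b.obj))) ?_ ?_
      · rw [Functor.map_comp, Functor.map_comp, (hv a).map_eq, (hv b).map_eq, pmap, pmap]; simp
      · rw [← cancel_mono ey.hom]
        simp only [Category.assoc]
        rw [hc b, reassoc_of% (map_toT (G := Gy) m.hom), hc a, ← hMn _ _ _ (by
          rw [← Category.assoc, map_toT]; exact hRa a)]
        simp only [← Category.assoc, map_toT]) hv
  let α := (_root_.Stk.resSieve R 𝒳).preimage β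
  have hα : ∀ a : (_root_.Stk.sieveCat R).obj, α.toNatTrans.app a.obj = χ a := fun a => by
    rw [← res_map_app α a, Functor.map_preimage]; rfl
  refine ⟨ex.inv ≫ α.toNatTrans.app (Over.mk (𝟙 U)) ≫ ey.hom,
    ⟨(Vert.symm hex).comp ((app_vert α _).comp hey), fun z φ hφ => ?_⟩, fun θ' ⟨hv', hθ'⟩ => ?_⟩
  · have hR' : R (𝒳.p.map (φ ≫ ex.inv) ≫ eqToHom (pobj Gx (Over.mk (𝟙 U)))) := by
      rw [Functor.map_comp, (Vert.symm hex).map_eq]; simpa using hφ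
    obtain ⟨t, -, ht⟩ := factor_toT h Gx (φ ≫ ex.inv) hR'
    generalize arr (φ ≫ ex.inv) (pobj Gx (Over.mk (𝟙 U))) hR' = a at t ht
    have hφ' : φ = t ≫ Gx.map (toT a.obj) ≫ ex.hom := by rw [← Category.assoc, ht]; simp
    subst hφ'
    rw [hMn _ _ (hRa a)]
    simp only [Category.assoc, Iso.hom_inv_id_assoc]
    have e1 : Gx.map (toT a.obj) ≫ α.toNatTrans.app (Over.mk (𝟙 U)) = χ a ≫ Gy.map (toT a.obj) := by
      rw [← hα]; exact nat_naturality α (toT a.obj)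
    rw [reassoc_of% e1, hc]
  · obtain ⟨α', hα'⟩ := over_full h (G := Gx) (H := Gy) (ex.hom ≫ θ' ≫ ey.inv)
      (hex.comp (hv'.comp (Vert.symm hey)))
    have : α' = α := (_root_.Stk.resSieve R 𝒳).map_injective (nat_ext fun a => by
      rw [res_map_app, res_map_app, hα]
      refine sc_ext (h.isStronglyCartesian (Gy.map (toT a.obj))) ?_ ?_
      · rw [(app_vert α' _).map_eq, (hv a).map_eq]
      · rw [← nat_naturality, hα', ← cancel_mono ey.hom]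
        simp only [Category.assoc, Iso.inv_hom_id, Category.comp_id]
        rw [hc, ← hθ' _ (hRa a), Category.assoc])
    rw [← this, hα']; simp

theorem res_faithful (h : IsFibGrpd 𝒳.p) (hg : HomGlue 𝒳.p R) : (_root_.Stk.resSieve R 𝒳).Faithful := by
  refine ⟨fun {G H α β} e => over_full_ext h α β ?_⟩
  refine hg.ext (pobj G _) (app_vert α _) (app_vert β _) fun z φ hφ => ?_
  obtain ⟨t, -, ht⟩ := factor_toT h G φ hφ
  have he := congrArg (fun γ => BasedNatTrans.toNatTrans γ |>.app (arr φ (pobj G _) hφ)) e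
  simp only [res_map_app] at he
  rw [← ht, Category.assoc, Category.assoc]
  exact congrArg (t ≫ ·) ((nat_naturality α (toT _)).trans
    ((congrArg (· ≫ H.map (toT _)) he).trans (nat_naturality β (toT _)).symm))

theorem res_full (h : IsFibGrpd 𝒳.p) (hg : HomGlue 𝒳.p R) : (_root_.Stk.resSieve R 𝒳).Full := by
  refine ⟨fun {G H} β => ?_⟩
  let β' : ∀ a : (_root_.Stk.sieveCat R).obj, G.obj a.obj ⟶ H.obj a.obj := fun a => β.toNatTrans.app a
  have hβv : ∀ a, Vert 𝒳.p (β' a) := fun a => app_vert β a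
  have hβn : ∀ {a b : (_root_.Stk.sieveCat R).obj} (m : a ⟶ b), G.map m.hom ≫ β' b = β' a ≫ H.map m.hom :=
    fun m => nat_naturality β m
  have key : ∀ ⦃z : 𝒳.obj⦄ (φ : z ⟶ G.obj (Over.mk (𝟙 U)))
      (hφ : R (𝒳.p.map φ ≫ eqToHom (pobj G (Over.mk (𝟙 U))))), ∃ w : z ⟶ H.obj (Over.mk (𝟙 U)),
      ∀ (a : (_root_.Stk.sieveCat R).obj) (t : z ⟶ G.obj a.obj), t ≫ G.map (toT a.obj) = φ →
        w = t ≫ β' a ≫ H.map (toT a.obj) := by
    intro z φ hφ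
    obtain ⟨t₀, hp₀, ht₀⟩ := factor_toT h G φ hφ
    refine ⟨t₀ ≫ β' _ ≫ H.map (toT _), fun a t ht => ?_⟩
    let m : arr φ (pobj G _) hφ ⟶ a := ObjectProperty.homMk (Over.homMk (𝒳.p.map t ≫ eqToHom (pobj G a.obj)) (by
      have := congrArg 𝒳.p.map ht
      rw [Functor.map_comp, pmap_toT] at this
      show (𝒳.p.map t ≫ eqToHom (pobj G a.obj)) ≫ a.obj.hom = 𝒳.p.map φ ≫ eqToHom _
      rw [← this]; simp))
    have e : t₀ ≫ G.map m.hom = t := by
      refine sc_ext (h.isStronglyCartesian (G.map (toT a.obj))) ?_ ?_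
      · rw [Functor.map_comp, hp₀, pmap]
        have e0 : (overCat U).p.map m.hom = 𝒳.p.map t ≫ eqToHom (pobj G a.obj) := rfl
        rw [e0]; simp
      · rw [Category.assoc, map_toT, ht₀, ht]
    rw [← e, Category.assoc, ← Category.assoc (G.map m.hom), hβn, Category.assoc, map_toT]
  choose M hM using key
  obtain ⟨θ, ⟨hθv, hθ⟩, -⟩ := hg _ _ (pobj G _) (pobj H _) M
    (fun z φ hφ => by
      obtain ⟨t, -, ht⟩ := factor_toT h G φ hφ
      rw [hM φ hφ _ t ht, Functor.map_comp, Functor.map_comp, (hβv _).map_eq, pmap_toT]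
      conv_rhs => rw [← ht, Functor.map_comp, pmap_toT]
      simp)
    (fun z z' χ φ hφ hφ' => by
      obtain ⟨t, -, ht⟩ := factor_toT h G φ hφ
      rw [hM φ hφ _ t ht, hM _ hφ' _ (χ ≫ t) (by rw [Category.assoc, ht]), Category.assoc])
  obtain ⟨α, hα⟩ := over_full h θ hθv
  refine ⟨α, nat_ext fun a => ?_⟩
  rw [res_map_app]
  refine sc_ext (h.isStronglyCartesian (H.map (toT a.obj))) ?_ ?_
  · rw [(app_vert α _).map_eq]; exact (hβv a).map_eq.symm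
  · have hR : R (𝒳.p.map (G.map (toT a.obj)) ≫ eqToHom (pobj G (Over.mk (𝟙 U)))) := by
      rw [pmap_toT]; simpa using R.downward_closed a.property (eqToHom (pobj G a.obj))
    rw [← nat_naturality, hα, hθ _ hR, hM _ hR a (𝟙 _) (Category.id_comp _), Category.id_comp]

theorem prestackFor_iff (h : IsFibGrpd 𝒳.p) : _root_.Stk.IsPrestackFor R 𝒳 ↔ HomGlue 𝒳.p R :=
  ⟨homGlue_of_res h, fun hg => ⟨res_full h hg, res_faithful h hg⟩⟩

theorem objGlue_of_res (he : (_root_.Stk.resSieve R 𝒳).EssSurj) : ObjGlue 𝒳 R := by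
  intro H
  haveI := he
  let G := (_root_.Stk.resSieve R 𝒳).objPreimage H
  let e := (_root_.Stk.resSieve R 𝒳).objObjPreimageIso H
  let i : ∀ a, H.obj a ⟶ G.obj a.obj := fun a => e.inv.toNatTrans.app a
  have hi : ∀ a, Vert 𝒳.p (i a) := fun a => app_vert e.inv a
  refine ⟨⟨G.obj (Over.mk (𝟙 U)), pobj G _, fun a => i a ≫ G.map (toT a.obj), fun a => ?_, fun {a b} m => ?_⟩⟩
  · rw [Functor.map_comp, (hi a).map_eq, pmap_toT]; simp
  · have : H.map m ≫ i b = i a ≫ G.map m.hom := nat_naturality e.inv m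
    rw [reassoc_of% this, map_toT]

theorem res_essSurj (h : IsFibGrpd 𝒳.p) (hg : ObjGlue 𝒳 R) : (_root_.Stk.resSieve R 𝒳).EssSurj := by
  refine ⟨fun H => ?_⟩
  obtain ⟨c⟩ := hg H
  obtain ⟨G, e, he⟩ := over_ess h c.pt c.over
  have key : ∀ a : (_root_.Stk.sieveCat R).obj, ∃ χ : H.obj a ⟶ G.obj a.obj,
      Vert 𝒳.p χ ∧ χ ≫ G.map (toT a.obj) ≫ e.hom = c.map a := by
    intro a
    obtain ⟨χ, h1, h2⟩ := sc_exists (h.isStronglyCartesian (G.map (toT a.obj))) (c.map a ≫ e.inv)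
      (eqToHom ((pobj H a).trans (pobj G a.obj).symm))
      (by rw [Functor.map_comp, c.proj, (Vert.symm he).map_eq, pmap_toT]; simp)
    exact ⟨χ, ⟨_, h1⟩, by rw [← Category.assoc, h2]; simp⟩
  choose χ hv hc using key
  haveI : ∀ a, IsIso (χ a) := fun a => isIso_of_vert h (hv a)
  refine ⟨G, ⟨(isoMk (fun a => asIso (χ a)) (fun {a b} m => ?_) hv).symm⟩⟩
  show H.map m ≫ χ b = χ a ≫ ((_root_.Stk.resSieve R 𝒳).obj G).map m
  rw [res_obj_map]
  refine sc_ext (h.isStronglyCartesian (G.map (toT b.obj))) ?_ ?_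
  · rw [Functor.map_comp, Functor.map_comp, (hv a).map_eq, (hv b).map_eq, pmap, pmap]
    have e0 : (_root_.Stk.sieveCat R).p.map m = (overCat U).p.map m.hom := rfl
    rw [e0]; simp
  · rw [← cancel_mono e.hom]
    simp only [Category.assoc]
    rw [hc b, reassoc_of% (map_toT (G := G) m.hom), hc a, c.natural]

theorem stackFor_iff (h : IsFibGrpd 𝒳.p) :
    _root_.Stk.IsStackFor R 𝒳 ↔ HomGlue 𝒳.p R ∧ ObjGlue 𝒳 R := by
  constructor
  · intro hs
    haveI : (_root_.Stk.resSieve R 𝒳).IsEquivalence := hs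
    exact ⟨homGlue_of_res h ⟨inferInstance, inferInstance⟩, objGlue_of_res inferInstance⟩
  · rintro ⟨h1, h2⟩
    haveI := res_full h h1
    haveI := res_faithful h h1
    haveI := res_essSurj h h2
    exact {}

theorem prestack_iff (J : GrothendieckTopology C) :
    _root_.Stk.IsPrestack J 𝒳 ↔ IsFibGrpd 𝒳.p ∧ ∀ ⦃U : C⦄ (R : Sieve U), R ∈ J U → HomGlue 𝒳.p R :=
  ⟨fun h => ⟨h.1, fun _ R hR => (prestackFor_iff h.1).1 (h.2 R hR)⟩,
    fun h => ⟨h.1, fun _ R hR => (prestackFor_iff h.1).2 (h.2 R hR)⟩⟩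

theorem stack_iff (J : GrothendieckTopology C) :
    _root_.Stk.IsStack J 𝒳 ↔ IsFibGrpd 𝒳.p ∧ ∀ ⦃U : C⦄ (R : Sieve U), R ∈ J U →
      HomGlue 𝒳.p R ∧ ObjGlue 𝒳 R :=
  ⟨fun h => ⟨h.1, fun _ R hR => (stackFor_iff h.1).1 (h.2 R hR)⟩,
    fun h => ⟨h.1, fun _ R hR => (stackFor_iff h.1).2 (h.2 R hR)⟩⟩

theorem stack_prestack {J : GrothendieckTopology C} (h : _root_.Stk.IsStack J 𝒳) : _root_.Stk.IsPrestack J 𝒳 :=
  (prestack_iff J).2 ⟨h.1, fun _ R hR => (((stack_iff J).1 h).2 R hR).1⟩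

end Groth.Agent.H7.Stk.Glue
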