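import Groth.Agent.H7.Stk.Fp
import Groth.Agent.Lead.FibCat.Fibre

/-! Stacks: invariance, locally essentially surjective functors, substacks, descent of faithfulness. -/

set_option autoImplicit false
set_option backward.isDefEq.respectTransparency false
set_option backward.isDefEq.respectTransparency.types false

universe v₂ v₃ v₄ u₂ u₃ u₄ v u

open CategoryTheory CategoryTheory.Functor FibCat
open Groth.Agent.LeadFibCat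

namespace Groth.Agent.H7.Stk.Glue

variable {C : Type u} [Category.{v} C] {𝒳 : BasedCategory.{v₂, u₂} C} {𝒴 : BasedCategory.{v₃, u₃} C}
  {U : C} {R : Sieve U}

/-- a family indexed by morphisms of the source of a functor over the base glues in the target -/
theorem img_glue (h𝒳 : IsFibGrpd 𝒳.p) (h𝒴 : IsFibGrpd 𝒴.p) (hg : HomGlue 𝒴.p R) (F : 𝒳 ⥤ᵇ 𝒴)
    (x : 𝒳.obj) (y : 𝒴.obj) (hx : 𝒳.p.obj x = U) (hy : 𝒴.p.obj y = U)
    (N : ∀ ⦃z : 𝒳.obj⦄ (φ : z ⟶ x), R (𝒳.p.map φ ≫ eqToHom hx) → (F.obj z ⟶ y))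
    (hN : ∀ ⦃z : 𝒳.obj⦄ (φ : z ⟶ x) (h : R (𝒳.p.map φ ≫ eqToHom hx)),
      𝒴.p.map (N φ h) = eqToHom (pobj F z) ≫ 𝒳.p.map φ ≫ eqToHom (hx.trans hy.symm))
    (hNn : ∀ ⦃z z' : 𝒳.obj⦄ (χ : z' ⟶ z) (φ : z ⟶ x) (h : R (𝒳.p.map φ ≫ eqToHom hx))
      (h' : R (𝒳.p.map (χ ≫ φ) ≫ eqToHom hx)), N (χ ≫ φ) h' = F.map χ ≫ N φ h) :
    ∃! θ : F.obj x ⟶ y, Vert 𝒴.p θ ∧
      ∀ ⦃z : 𝒳.obj⦄ (φ : z ⟶ x) (h : R (𝒳.p.map φ ≫ eqToHom hx)), F.map φ ≫ θ = N φ h := by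
  have key : ∀ ⦃w : 𝒴.obj⦄ (ψ : w ⟶ F.obj x), R (𝒴.p.map ψ ≫ eqToHom ((pobj F x).trans hx)) →
      ∃ (z : 𝒳.obj) (φ : z ⟶ x) (_ : R (𝒳.p.map φ ≫ eqToHom hx)) (t : w ⟶ F.obj z),
        Vert 𝒴.p t ∧ t ≫ F.map φ = ψ := by
    intro w ψ hψ
    obtain ⟨z, φ, t, ht, ht'⟩ := lift_img h𝒳 h𝒴 F ψ
    refine ⟨z, φ, ?_, t.hom, ht, ht'⟩
    rw [← ht', Functor.map_comp, ht.map_eq, pmap] at hψ
    simpa using R.downward_closed hψ (eqToHom (ht.1.trans (pobj F z)).symm)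
  choose Z P hP T hT hT' using key
  have pP : ∀ ⦃w : 𝒴.obj⦄ (ψ : w ⟶ F.obj x) (h), 𝒳.p.map (P ψ h) =
      eqToHom ((hT ψ h).1.trans (pobj F _)).symm ≫ 𝒴.p.map ψ ≫ eqToHom (pobj F x) := by
    intro w ψ h
    have e := congrArg 𝒴.p.map (hT' ψ h)
    rw [Functor.map_comp, (hT ψ h).map_eq, pmap] at e
    rw [← e]
    simp
  have good : ∀ ⦃z : 𝒳.obj⦄ (φ : z ⟶ x) (h : R (𝒳.p.map φ ≫ eqToHom hx)) (h'),
      N φ h = T (F.map φ) h' ≫ N (P (F.map φ) h') (hP _ h') := by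
    intro z φ h h'
    obtain ⟨c, hc, hc'⟩ := sc_exists (h𝒳.isStronglyCartesian (P (F.map φ) h')) φ
      (eqToHom ((pobj F z).symm.trans ((hT _ h').1.trans (pobj F _)))) (by rw [pP, pmap]; simp)
    have e : F.map c = T (F.map φ) h' := by
      refine sc_ext (h𝒴.isStronglyCartesian (F.map (P (F.map φ) h'))) ?_ ?_
      · rw [pmap, hc, (hT _ h').map_eq]; simp
      · rw [← Functor.map_comp, hc', hT']
    have := hNn c (P (F.map φ) h') (hP _ h') (by rw [hc']; exact h)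
    simp only [hc'] at this
    rw [this, e]
  obtain ⟨θ, ⟨hv, hθ⟩, hu⟩ := hg (F.obj x) y ((pobj F x).trans hx) hy
    (fun w ψ h => T ψ h ≫ N (P ψ h) (hP ψ h))
    (fun w ψ h => by rw [Functor.map_comp, (hT ψ h).map_eq, hN, pP]; simp)
    (fun w w' χ ψ h h' => by
      obtain ⟨c, hc, hc'⟩ := sc_exists (h𝒳.isStronglyCartesian (P ψ h)) (P (χ ≫ ψ) h')
        (eqToHom ((hT _ h').1.trans (pobj F _)).symm ≫ 𝒴.p.map χ ≫ eqToHom ((hT ψ h).1.trans (pobj F _)))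
        (by rw [pP, pP, Functor.map_comp]; simp)
      have e : T _ h' ≫ F.map c = χ ≫ T ψ h := by
        refine sc_ext (h𝒴.isStronglyCartesian (F.map (P ψ h))) ?_ ?_
        · rw [Functor.map_comp, Functor.map_comp, pmap, hc, (hT _ h').map_eq, (hT ψ h).map_eq]; simp
        · rw [Category.assoc, ← Functor.map_comp, hc', hT', Category.assoc, hT']
      have := hNn c (P ψ h) (hP ψ h) (by rw [hc']; exact hP _ h')
      simp only [hc'] at this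
      rw [this, reassoc_of% e])
  refine ⟨θ, ⟨hv, fun z φ h => ?_⟩, fun θ' ⟨hv', hθ'⟩ => hu θ' ⟨hv', fun w ψ h => ?_⟩⟩
  · rw [hθ (F.map φ) (map_mem F φ hx h), ← good φ h]
  · show ψ ≫ θ' = T ψ h ≫ N (P ψ h) (hP ψ h)
    rw [← hθ' (P ψ h) (hP ψ h), ← Category.assoc, hT']

/-- a vertical morphism out of an image is determined by its composites with images -/
theorem img_ext (h𝒳 : IsFibGrpd 𝒳.p) (h𝒴 : IsFibGrpd 𝒴.p) (hg : HomGlue 𝒴.p R) (F : 𝒳 ⥤ᵇ 𝒴)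
    {x : 𝒳.obj} {y : 𝒴.obj} (hx : 𝒳.p.obj x = U) {θ θ' : F.obj x ⟶ y} (hv : Vert 𝒴.p θ) (hv' : Vert 𝒴.p θ')
    (he : ∀ ⦃z : 𝒳.obj⦄ (φ : z ⟶ x), R (𝒳.p.map φ ≫ eqToHom hx) → F.map φ ≫ θ = F.map φ ≫ θ') : θ = θ' := by
  refine hg.ext ((pobj F x).trans hx) hv hv' fun w ψ hψ => ?_
  obtain ⟨z, φ, t, ht, ht'⟩ := lift_img h𝒳 h𝒴 F ψ
  rw [← ht', Functor.map_comp, ht.map_eq, pmap] at hψ
  rw [← ht', Category.assoc, Category.assoc,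
    he φ (by simpa using R.downward_closed hψ (eqToHom (ht.1.trans (pobj F z)).symm))]

theorem homGlue_of_ff (h𝒳 : IsFibGrpd 𝒳.p) (h𝒴 : IsFibGrpd 𝒴.p) (F : 𝒳 ⥤ᵇ 𝒴)
    (hfull : ∀ {a b : 𝒳.obj} (ψ : F.obj a ⟶ F.obj b), ∃ φ, F.map φ = ψ)
    (hfaith : ∀ {a b : 𝒳.obj} (φ φ' : a ⟶ b), F.map φ = F.map φ' → φ = φ')
    (hg : HomGlue 𝒴.p R) : HomGlue 𝒳.p R := by
  intro x y hx hy M hM hMn
  obtain ⟨θ', ⟨hv, hθ⟩, hu⟩ := img_glue h𝒳 h𝒴 hg F x (F.obj y) hx ((pobj F y).trans hy)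
    (fun z φ h => F.map (M φ h)) (fun z φ h => by rw [pmap, hM]; simp)
    (fun z z' χ φ h h' => by rw [hMn χ φ h h', Functor.map_comp])
  obtain ⟨θ, rfl⟩ := hfull θ'
  refine ⟨θ, ⟨hv.reflect, fun z φ h => hfaith _ _ (by rw [Functor.map_comp, hθ φ h])⟩,
    fun θ₁ ⟨hv₁, h₁⟩ => hfaith _ _ (hu _ ⟨hv₁.map, fun z φ h => by
      show F.map φ ≫ F.map θ₁ = F.map (M φ h)
      rw [← Functor.map_comp, h₁ φ h]⟩)⟩

theorem Cocone.proj' {H : _root_.Stk.sieveCat R ⥤ᵇ 𝒳} (c : Cocone H) (a : (_root_.Stk.sieveCat R).obj)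
    {w : 𝒳.obj} (t : w ⟶ H.obj a) :
    𝒳.p.map (t ≫ c.map a) ≫ eqToHom c.over = 𝒳.p.map t ≫ eqToHom (pobj H a) ≫ a.obj.hom := by
  rw [Functor.map_comp, c.proj]; simp

/-- the universal property of a cocone -/
theorem Cocone.desc (h : IsFibGrpd 𝒳.p) (hg : HomGlue 𝒳.p R) {H : _root_.Stk.sieveCat R ⥤ᵇ 𝒳}
    (c c' : Cocone H) : ∃! θ : c.pt ⟶ c'.pt, Vert 𝒳.p θ ∧ ∀ a, c.map a ≫ θ = c'.map a := by
  have key : ∀ ⦃w : 𝒳.obj⦄ (ψ : w ⟶ c.pt), R (𝒳.p.map ψ ≫ eqToHom c.over) →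
      ∃ (a : (_root_.Stk.sieveCat R).obj) (t : w ⟶ H.obj a), t ≫ c.map a = ψ := by
    intro w ψ hψ
    let a : (_root_.Stk.sieveCat R).obj := ⟨Over.mk (𝒳.p.map ψ ≫ eqToHom c.over), hψ⟩
    obtain ⟨t, -, h2⟩ := sc_exists (h.isStronglyCartesian (c.map a)) ψ (eqToHom (pobj H a).symm)
      (by rw [c.proj]; simp [a])
    exact ⟨a, t, h2⟩
  choose A T hT using key
  have good : ∀ ⦃w : 𝒳.obj⦄ (ψ : w ⟶ c.pt) (hψ) (a : (_root_.Stk.sieveCat R).obj) (t : w ⟶ H.obj a),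
      t ≫ c.map a = ψ → t ≫ c'.map a = T ψ hψ ≫ c'.map (A ψ hψ) := by
    intro w ψ hψ a t ht
    -- both factor through the object of `R` given by `ψ`
    let a₀ : (_root_.Stk.sieveCat R).obj := ⟨Over.mk (𝒳.p.map ψ ≫ eqToHom c.over), hψ⟩
    obtain ⟨t₀, h1, h2⟩ := sc_exists (h.isStronglyCartesian (c.map a₀)) ψ (eqToHom (pobj H a₀).symm)
      (by rw [c.proj]; simp [a₀])
    have fac : ∀ (b : (_root_.Stk.sieveCat R).obj) (s : w ⟶ H.obj b), s ≫ c.map b = ψ →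
        s ≫ c'.map b = t₀ ≫ c'.map a₀ := by
      intro b s hs
      let m : a₀ ⟶ b := ObjectProperty.homMk (Over.homMk (𝒳.p.map s ≫ eqToHom (pobj H b)) (by
        show (𝒳.p.map s ≫ eqToHom (pobj H b)) ≫ b.obj.hom = 𝒳.p.map ψ ≫ eqToHom c.over
        rw [← hs, c.proj', Category.assoc]))
      have e : t₀ ≫ H.map m = s := by
        refine sc_ext (h.isStronglyCartesian (c.map b)) ?_ ?_
        · rw [Functor.map_comp, h1, pmap,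
            show (_root_.Stk.sieveCat R).p.map m = 𝒳.p.map s ≫ eqToHom (pobj H b) from rfl]
          simp
        · rw [Category.assoc, c.natural, h2, hs]
      rw [← e, Category.assoc, c'.natural]
    rw [fac a t ht, fac _ _ (hT ψ hψ)]
  obtain ⟨θ, ⟨hv, hθ⟩, hu⟩ := hg c.pt c'.pt c.over c'.over
    (fun w ψ hψ => T ψ hψ ≫ c'.map (A ψ hψ))
    (fun w ψ hψ => by
      rw [← cancel_mono (eqToHom c'.over), c'.proj', ← c.proj', hT]; simp)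
    (fun w w' χ ψ h1 h2 => by
      rw [← good (χ ≫ ψ) h2 (A ψ h1) (χ ≫ T ψ h1) (by rw [Category.assoc, hT]), Category.assoc])
  refine ⟨θ, ⟨hv, fun a => ?_⟩, fun θ' ⟨hv', hθ'⟩ => hu θ' ⟨hv', fun w ψ hψ => ?_⟩⟩
  · have ha : R (𝒳.p.map (c.map a) ≫ eqToHom c.over) := by
      rw [c.proj]; simpa using R.downward_closed a.property (eqToHom (pobj H a))
    rw [hθ _ ha, ← good _ ha a (𝟙 _) (Category.id_comp _), Category.id_comp]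
  · show ψ ≫ θ' = T ψ hψ ≫ c'.map (A ψ hψ)
    rw [← hθ', ← Category.assoc, hT]

/-- image of a cocone -/
def Cocone.post {H : _root_.Stk.sieveCat R ⥤ᵇ 𝒳} (c : Cocone H) (F : 𝒳 ⥤ᵇ 𝒴) :
    Cocone (BasedFunctor.comp H F) where
  pt := F.obj c.pt
  over := (pobj F c.pt).trans c.over
  map a := F.map (c.map a)
  proj a := by rw [pmap, c.proj]; simp
  natural m := by
    show F.map (H.map m) ≫ F.map _ = F.map _
    rw [← Functor.map_comp, c.natural]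

/-- change a cocone by a vertical morphism -/
def Cocone.trans {H : _root_.Stk.sieveCat R ⥤ᵇ 𝒳} (c : Cocone H) {y : 𝒳.obj} (e : c.pt ⟶ y)
    (he : Vert 𝒳.p e) : Cocone H where
  pt := y
  over := he.1.symm.trans c.over
  map a := c.map a ≫ e
  proj a := by rw [Functor.map_comp, c.proj, he.map_eq]; simp
  natural m := by rw [← Category.assoc, c.natural]

theorem stack_of_equiv {J : GrothendieckTopology C} (F : 𝒳 ⥤ᵇ 𝒴) (hF : IsEquivOver F)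
    (h : _root_.Stk.IsStack J 𝒴) : _root_.Stk.IsStack J 𝒳 := by
  rw [stack_iff] at h ⊢
  have hf := isFibGrpd_of_equiv' hF h.1
  obtain ⟨h1, h2, h3⟩ := equiv_props hF
  refine ⟨hf, fun U R hR => ⟨homGlue_of_ff hf h.1 F h1 h2 (h.2 R hR).1, fun H => ?_⟩⟩
  obtain ⟨c⟩ := (h.2 R hR).2 (BasedFunctor.comp H F)
  obtain ⟨ξ, e, he⟩ := h3 c.pt
  let c' := c.trans e.inv he.symm
  choose m hm using fun a => h1 (a := H.obj a) (b := ξ) (c'.map a)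
  refine ⟨⟨ξ, (pobj F ξ).symm.trans c'.over, m, fun a => ?_, fun {a b} k => h2 _ _ ?_⟩⟩
  · have := c'.proj a
    rw [← hm, pmap] at this
    rw [← cancel_epi (eqToHom (pobj F (H.obj a))), ← cancel_mono (eqToHom (pobj F ξ).symm)]
    simp only [Category.assoc, eqToHom_trans, eqToHom_trans_assoc] at this ⊢
    exact this
  · rw [Functor.map_comp, hm, hm]
    exact c'.natural k

theorem stack_iff_of_equiv {J : GrothendieckTopology C} (F : 𝒳 ⥤ᵇ 𝒴) (hF : IsEquivOver F) :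
    _root_.Stk.IsStack J 𝒳 ↔ _root_.Stk.IsStack J 𝒴 := by
  obtain ⟨G, hG, -⟩ := equiv_inv hF
  exact ⟨stack_of_equiv G hG, stack_of_equiv F hF⟩

theorem equiv_iff_local {J : GrothendieckTopology C} (h𝒳 : _root_.Stk.IsStack J 𝒳)
    (h𝒴 : _root_.Stk.IsStack J 𝒴) (F : 𝒳 ⥤ᵇ 𝒴)
    (hfull : ∀ {a b : 𝒳.obj} (ψ : F.obj a ⟶ F.obj b), ∃ φ, F.map φ = ψ)
    (hfaith : ∀ {a b : 𝒳.obj} (φ φ' : a ⟶ b), F.map φ = F.map φ' → φ = φ') :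
    IsEquivOver F ↔ ∀ y : 𝒴.obj, ∃ R ∈ J (𝒴.p.obj y), ∀ ⦃V : C⦄ (f : V ⟶ 𝒴.p.obj y), R f →
      ∃ (x : 𝒳.obj) (φ : F.obj x ⟶ y), 𝒴.p.IsHomLift f φ := by
  rw [stack_iff] at h𝒳 h𝒴
  constructor
  · intro hF y
    refine ⟨⊤, J.top_mem _, fun V f _ => ?_⟩
    obtain ⟨w, ψ, e, he⟩ := exists_lift' h𝒴.1 f
    obtain ⟨ξ, i, hi⟩ := (equiv_props hF).2.2 w
    exact ⟨ξ, i.hom ≫ ψ, IsHomLift.of_fac' 𝒴.p f _ (hi.1.trans e) rfl
      (by rw [Functor.map_comp, hi.map_eq, he]; simp)⟩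
  · intro hloc
    refine isEquivOver_mk F hfull hfaith fun y => ?_
    obtain ⟨R, hR, hl⟩ := hloc y
    choose x φ hφ using fun a : (_root_.Stk.sieveCat R).obj => hl a.obj.hom a.property
    have hx : ∀ a, 𝒳.p.obj (x a) = a.obj.left := fun a =>
      (pobj F (x a)).symm.trans (IsHomLift.domain_eq 𝒴.p a.obj.hom (φ a))
    have hp : ∀ a, 𝒴.p.map (φ a) = eqToHom ((pobj F (x a)).trans (hx a)) ≫ a.obj.hom := fun a => by
      haveI := hφ a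
      rw [IsHomLift.fac' 𝒴.p a.obj.hom (φ a)]; simp
    have km : ∀ {a b : (_root_.Stk.sieveCat R).obj} (k : a ⟶ b), ∃ χ : x a ⟶ x b,
        𝒳.p.map χ = eqToHom (hx a) ≫ (_root_.Stk.sieveCat R).p.map k ≫ eqToHom (hx b).symm ∧
        F.map χ ≫ φ b = φ a := by
      intro a b k
      obtain ⟨t, h1, h2⟩ := sc_exists (h𝒴.1.isStronglyCartesian (φ b)) (φ a)
        (eqToHom ((pobj F (x a)).trans (hx a)) ≫ (_root_.Stk.sieveCat R).p.map k ≫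
          eqToHom ((pobj F (x b)).trans (hx b)).symm) (by
          rw [hp, hp]
          simp only [Category.assoc, eqToHom_trans_assoc, eqToHom_refl, Category.id_comp]
          exact congrArg (eqToHom _ ≫ ·) (Over.w k.hom))
      obtain ⟨χ, rfl⟩ := hfull t
      refine ⟨χ, ?_, h2⟩
      rw [pmap] at h1
      rw [← cancel_epi (eqToHom (pobj F (x a))), ← cancel_mono (eqToHom (pobj F (x b)).symm)]
      simp only [Category.assoc] at h1 ⊢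
      rw [h1]; simp
    choose χ hχ hχ' using @km
    have hext : ∀ {a b : (_root_.Stk.sieveCat R).obj} (s t : x a ⟶ x b), 𝒳.p.map s = 𝒳.p.map t →
        F.map s ≫ φ b = F.map t ≫ φ b → s = t := fun s t e1 e2 =>
      hfaith _ _ (sc_ext (h𝒴.1.isStronglyCartesian (φ _)) (by rw [pmap, pmap, e1]) e2)
    let K : (_root_.Stk.sieveCat R).obj ⥤ 𝒳.obj :=
      { obj := x
        map := fun k => χ k
        map_id := fun a => hext _ _ (by rw [hχ, (_root_.Stk.sieveCat R).p.map_id, 𝒳.p.map_id]; exact ((congrArg (eqToHom (hx a) ≫ ·) (Category.id_comp _)).trans (eqToHom_trans _ _)).trans (eqToHom_refl _ _)) (by rw [hχ', F.toFunctor.map_id, Category.id_comp])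
        map_comp := fun {a b c} k l => hext _ _ (by rw [Functor.map_comp, hχ, hχ, hχ]; simp)
          (by rw [Functor.map_comp, Category.assoc, hχ', hχ', hχ']) }
    let H : _root_.Stk.sieveCat R ⥤ᵇ 𝒳 :=
      { toFunctor := K, w := CategoryTheory.Functor.ext hx fun a b k => hχ k }
    obtain ⟨c⟩ := (h𝒳.2 R hR).2 H
    let c' : Cocone (BasedFunctor.comp H F) :=
      { pt := y, over := rfl, map := φ, proj := fun a => by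
          rw [hp]; simp
        natural := fun k => hχ' k }
    obtain ⟨θ, ⟨hv, -⟩, -⟩ := (c.post F).desc h𝒴.1 (h𝒴.2 R hR).1 c'
    haveI : IsIso θ := isIso_of_vert h𝒴.1 hv
    exact ⟨c.pt, @asIso _ _ _ _ θ this, hv⟩

theorem stack_subcat {J : GrothendieckTopology C} (h𝒳 : _root_.Stk.IsStack J 𝒳) (Q : ObjectProperty 𝒳.obj)
    (h1 : ∀ ⦃y x : 𝒳.obj⦄ (_ : y ⟶ x), Q x → ∃ (y' : 𝒳.obj) (e : y ≅ y'),
      Q y' ∧ 𝒳.p.IsHomLift (𝟙 (𝒳.p.obj y)) e.hom)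
    (h3 : ∀ ⦃U : C⦄ (R : Sieve U), R ∈ J U → ∀ (x : 𝒳.obj), 𝒳.p.obj x = U →
      (∀ ⦃V : C⦄ (f : V ⟶ U), R f → ∀ (y : 𝒳.obj) (φ : y ⟶ x), 𝒳.p.IsHomLift f φ →
        ∃ (y' : 𝒳.obj) (e : y ≅ y'), Q y' ∧ 𝒳.p.IsHomLift (𝟙 V) e.hom) →
      ∃ (x' : 𝒳.obj) (e : x ≅ x'), Q x' ∧ 𝒳.p.IsHomLift (𝟙 U) e.hom) :
    _root_.Stk.IsStack J (BasedCategory.ofFunctor (Q.ι ⋙ 𝒳.p)) := by
  rw [stack_iff] at h𝒳 ⊢
  let I : BasedCategory.ofFunctor (Q.ι ⋙ 𝒳.p) ⥤ᵇ 𝒳 := { toFunctor := Q.ι, w := rfl }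
  have hfull : ∀ {a b} (ψ : I.obj a ⟶ I.obj b), ∃ φ, I.map φ = ψ := fun ψ => ⟨ObjectProperty.homMk ψ, rfl⟩
  have hfaith : ∀ {a b} (φ φ' : a ⟶ b), I.map φ = I.map φ' → φ = φ' := fun φ φ' e =>
    ObjectProperty.hom_ext _ e
  have hfib : IsFibGrpd (BasedCategory.ofFunctor (Q.ι ⋙ 𝒳.p)).p := by
    refine isFibGrpd_mk (fun {x V} f => ?_) (fun φ => sc_reflect I hfull hfaith φ (h𝒳.1.isStronglyCartesian _))
    obtain ⟨y, φ, e, he⟩ := exists_lift' h𝒳.1 (x := x.obj) f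
    obtain ⟨y', i, hy', hi⟩ := h1 φ x.property
    have hv : Vert 𝒳.p i.inv := (Vert.of_lift hi).symm
    refine ⟨⟨y', hy'⟩, ObjectProperty.homMk (i.inv ≫ φ), hv.1.trans e, ?_⟩
    show 𝒳.p.map (i.inv ≫ φ) = eqToHom _ ≫ f
    rw [Functor.map_comp, hv.map_eq, he, eqToHom_trans_assoc]
  refine ⟨hfib, fun U R hR => ⟨homGlue_of_ff hfib h𝒳.1 I hfull hfaith (h𝒳.2 R hR).1, fun H => ?_⟩⟩
  obtain ⟨c⟩ := (h𝒳.2 R hR).2 (BasedFunctor.comp H I)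
  obtain ⟨x', e, hx', he⟩ := h3 R hR c.pt c.over fun V f hf y φ hφ => by
    let a : (_root_.Stk.sieveCat R).obj := ⟨Over.mk f, hf⟩
    have hy : 𝒳.p.obj y = V := IsHomLift.domain_eq 𝒳.p f φ
    have hz : 𝒳.p.obj (H.obj a).obj = V := pobj (BasedFunctor.comp H I) a
    obtain ⟨t, ht, -⟩ := sc_exists (h𝒳.1.isStronglyCartesian (c.map a)) φ (eqToHom (hy.trans hz.symm))
      (by rw [c.proj, IsHomLift.fac' 𝒳.p f φ]; simp [a])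
    haveI := isIso_of_vert h𝒳.1 (φ := t) ⟨_, ht⟩
    exact ⟨(H.obj a).obj, @asIso _ _ _ _ t this, (H.obj a).property, Vert.lift ⟨_, ht⟩ hy⟩
  let c' := c.trans e.hom (Vert.of_lift he)
  exact ⟨⟨⟨x', hx'⟩, c'.over, fun a => ObjectProperty.homMk (c'.map a), fun a => c'.proj a,
    fun k => ObjectProperty.hom_ext _ (c'.natural k)⟩⟩

section Descent

variable {𝒮 : BasedCategory.{v₄, u₄} C} (h𝒳f : IsFibGrpd 𝒳.p) (h𝒮f : IsFibGrpd 𝒮.p)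

include h𝒳f h𝒮f in
/-- two parallel vertical morphisms agree when vertical automorphisms of locally lifted objects are trivial -/
theorem eq_of_local {J : GrothendieckTopology C} (h𝒴 : _root_.Stk.IsStack J 𝒴) (F : 𝒳 ⥤ᵇ 𝒮) (G : 𝒴 ⥤ᵇ 𝒮)
    (hF : ∀ y : 𝒮.obj, ∃ R ∈ J (𝒮.p.obj y), ∀ ⦃V : C⦄ (f : V ⟶ 𝒮.p.obj y), R f →
      ∃ (x : 𝒳.obj) (φ : F.obj x ⟶ y), 𝒮.p.IsHomLift f φ)
    {a b : 𝒴.obj} {φ φ' : a ⟶ b} (hφ : Vert 𝒴.p φ) (hφ' : Vert 𝒴.p φ')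
    (htriv : ∀ (P : (fp F G).obj) (ρ : P.obj.snd ⟶ P.obj.snd) (ψ : P.obj.snd ⟶ a), Vert 𝒴.p ρ →
      ρ ≫ ψ ≫ φ = ψ ≫ φ' → ρ = 𝟙 _) :
    φ = φ' := by
  rw [stack_iff] at h𝒴
  obtain ⟨R, hR, hl⟩ := hF (G.obj a)
  refine (h𝒴.2 R hR).1.ext (pobj G a).symm hφ hφ' fun z ψ hψ => ?_
  obtain ⟨x₂, ω, hω⟩ := hl _ hψ
  have hd : 𝒮.p.obj (F.obj x₂) = 𝒴.p.obj z :=
    IsHomLift.domain_eq 𝒮.p (𝒴.p.map ψ ≫ eqToHom (pobj G a).symm) ω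
  obtain ⟨i, hi, -⟩ := sc_iso (h𝒮f.isStronglyCartesian ω) (h𝒮f.isStronglyCartesian (G.map ψ))
    (hd.trans (pobj G z).symm)
    (by rw [pmap, IsHomLift.fac' 𝒮.p (𝒴.p.map ψ ≫ eqToHom (pobj G a).symm) ω]; simp)
  obtain ⟨ρ, hρ, hρ'⟩ := sc_exists (h𝒴.1.isStronglyCartesian (ψ ≫ φ)) (ψ ≫ φ') (eqToHom rfl)
    (by rw [Functor.map_comp, Functor.map_comp, hφ.map_eq, hφ'.map_eq]; simp)
  have := htriv (fpMk x₂ z i hi) ρ ψ ⟨rfl, hρ⟩ hρ'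
  subst this
  rw [← hρ']; exact (Category.id_comp _).symm

include h𝒳f h𝒮f in
theorem faithful_of_local {J : GrothendieckTopology C} (h𝒴 : _root_.Stk.IsStack J 𝒴) (F : 𝒳 ⥤ᵇ 𝒮)
    (G : 𝒴 ⥤ᵇ 𝒮)
    (hF : ∀ y : 𝒮.obj, ∃ R ∈ J (𝒮.p.obj y), ∀ ⦃V : C⦄ (f : V ⟶ 𝒮.p.obj y), R f →
      ∃ (x : 𝒳.obj) (φ : F.obj x ⟶ y), 𝒮.p.IsHomLift f φ)
    (hG' : (fpFst F G).toFunctor.Faithful) : G.toFunctor.Faithful := by
  refine ⟨fun {a b φ φ'} e => faithful_of_vert (G := G) (isFibered_of_isFibGrpd h𝒴.1)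
    (fun f _ => h𝒮f.isStronglyCartesian _) (fun {a b} φ φ' hφ hφ' e => ?_) φ φ' e⟩
  refine eq_of_local h𝒳f h𝒮f h𝒴 F G hF hφ hφ' fun P ρ ψ hρ hρe => ?_
  have hGρ : G.map ρ = 𝟙 _ := by
    refine sc_ext (h𝒮f.isStronglyCartesian (G.map (ψ ≫ φ))) ?_ ?_
    · rw [(hρ.map (F := G)).map_eq]; simp
    · rw [← Functor.map_comp, hρe, Category.id_comp, Functor.map_comp, Functor.map_comp, e]
  let m : P ⟶ P := fpHom (𝟙 _) ρ (by rw [F.toFunctor.map_id, hGρ, Category.id_comp, Category.comp_id])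
  haveI := hG'
  have : m = 𝟙 P := (fpFst F G).toFunctor.map_injective rfl
  exact congrArg (fun k : P ⟶ P => k.hom.snd) this

include h𝒳f h𝒮f in
theorem setoid_of_local {J : GrothendieckTopology C} (h𝒴 : _root_.Stk.IsStack J 𝒴) (F : 𝒳 ⥤ᵇ 𝒮)
    (hfull : ∀ {a b : 𝒳.obj} (ψ : F.obj a ⟶ F.obj b), ∃ φ, F.map φ = ψ) (G : 𝒴 ⥤ᵇ 𝒮)
    (hF : ∀ y : 𝒮.obj, ∃ R ∈ J (𝒮.p.obj y), ∀ ⦃V : C⦄ (f : V ⟶ 𝒮.p.obj y), R f →
      ∃ (x : 𝒳.obj) (φ : F.obj x ⟶ y), 𝒮.p.IsHomLift f φ)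
    (h : IsFibSetoid (fp F G).p) : IsFibSetoid 𝒴.p := by
  refine ⟨h𝒴.1, thin_mk fun {a b} φ φ' hφ hφ' => ?_⟩
  refine eq_of_local h𝒳f h𝒮f h𝒴 F G hF hφ hφ' fun P ρ ψ hρ _ => ?_
  obtain ⟨σ, hσ⟩ := hfull (P.obj.iso.hom ≫ G.map ρ ≫ P.obj.iso.inv)
  have hσv : Vert 𝒳.p σ := Vert.reflect (F := F) (by
    rw [hσ]; exact (fp_vert P).comp ((hρ.map).comp (fp_vert P).symm))
  let m : P ⟶ P := fpHom σ ρ (by rw [hσ]; simp)
  have : m = 𝟙 P := thin_of h.2 m (𝟙 P) hσv (Vert.id _)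
  exact congrArg (fun k : P ⟶ P => k.hom.snd) this

end Descent

end Groth.Agent.H7.Stk.Glue
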