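import Groth.Agent.H7.Stk.Local
import Mathlib.CategoryTheory.Sites.IsSheafFor
import Mathlib.CategoryTheory.Sites.SheafOfTypes

/-! Gluing over morphisms, refinement of sieves, and stacks attached to presheaves of sets. -/

set_option autoImplicit false
set_option backward.isDefEq.respectTransparency false
set_option backward.isDefEq.respectTransparency.types false

universe w v₂ v₃ v₄ u₂ u₃ u₄ v u

open CategoryTheory CategoryTheory.Functor FibCat Opposite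
open Groth.Agent.LeadFibCat

namespace Groth.Agent.H7.Stk.Glue

variable {C : Type u} [Category.{v} C] {𝒳 : BasedCategory.{v₂, u₂} C} {U : C}

/-- gluing of morphisms lying over a given morphism of the base -/
theorem HomGlue.over (h : IsFibGrpd 𝒳.p) {x y : 𝒳.obj} {T : Sieve (𝒳.p.obj x)} (hT : HomGlue 𝒳.p T)
    (g : 𝒳.p.obj x ⟶ 𝒳.p.obj y)
    (N : ∀ ⦃z : 𝒳.obj⦄ (φ : z ⟶ x), T (𝒳.p.map φ) → (z ⟶ y))
    (hN : ∀ ⦃z : 𝒳.obj⦄ (φ : z ⟶ x) (hφ : T (𝒳.p.map φ)), 𝒳.p.map (N φ hφ) = 𝒳.p.map φ ≫ g)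
    (hNn : ∀ ⦃z z' : 𝒳.obj⦄ (χ : z' ⟶ z) (φ : z ⟶ x) (h₁ : T (𝒳.p.map φ)) (h₂ : T (𝒳.p.map (χ ≫ φ))),
      N (χ ≫ φ) h₂ = χ ≫ N φ h₁) :
    ∃! θ : x ⟶ y, 𝒳.p.map θ = g ∧ ∀ ⦃z : 𝒳.obj⦄ (φ : z ⟶ x) (hφ : T (𝒳.p.map φ)), φ ≫ θ = N φ hφ := by
  obtain ⟨y', l, e, hl⟩ := exists_lift' h g
  have tr : ∀ ⦃z : 𝒳.obj⦄ (φ : z ⟶ x), T (𝒳.p.map φ ≫ eqToHom rfl) → T (𝒳.p.map φ) := fun z φ hφ => by
    simpa using hφ
  have key : ∀ ⦃z : 𝒳.obj⦄ (φ : z ⟶ x) (hφ : T (𝒳.p.map φ ≫ eqToHom rfl)), ∃ χ : z ⟶ y',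
      𝒳.p.map χ = 𝒳.p.map φ ≫ eqToHom e.symm ∧ χ ≫ l = N φ (tr φ hφ) := fun z φ hφ =>
    sc_exists (h.isStronglyCartesian l) _ _ (by rw [hN, hl]; simp)
  choose M hM hM' using key
  obtain ⟨θ, ⟨hv, hθ⟩, hu⟩ := hT x y' rfl e M (fun z φ hφ => by rw [hM])
    (fun z z' χ φ h₁ h₂ => sc_ext (h.isStronglyCartesian l)
      (by rw [Functor.map_comp, hM, hM, Functor.map_comp, Category.assoc])
      (by rw [hM', Category.assoc, hM', hNn]))
  refine ⟨θ ≫ l, ⟨?_, fun z φ hφ => ?_⟩, fun θ' ⟨hθ', hθ''⟩ => ?_⟩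
  · rw [Functor.map_comp, hv.map_eq, hl]; simp
  · rw [← Category.assoc, hθ φ (by simpa using hφ), hM']
  · obtain ⟨t, ht, ht'⟩ := sc_exists (h.isStronglyCartesian l) θ' (eqToHom e.symm) (by rw [hθ', hl]; simp)
    have : t = θ := hu t ⟨⟨e.symm, ht⟩, fun z φ hφ => sc_ext (h.isStronglyCartesian l)
      (by rw [Functor.map_comp, ht, hM]) (by rw [Category.assoc, ht', hM', hθ'' φ (tr φ hφ)])⟩
    rw [← ht', this]

/-- morphisms over the same morphism of the base which agree on a sieve agree -/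
theorem eq_of_homGlue (h : IsFibGrpd 𝒳.p) {x y : 𝒳.obj} {T : Sieve (𝒳.p.obj x)} (hT : HomGlue 𝒳.p T)
    {m m' : x ⟶ y} (hm : 𝒳.p.map m = 𝒳.p.map m')
    (he : ∀ ⦃z : 𝒳.obj⦄ (φ : z ⟶ x), T (𝒳.p.map φ) → φ ≫ m = φ ≫ m') : m = m' := by
  obtain ⟨t, -, ht⟩ := hT.over h (𝒳.p.map m) (fun z φ _ => φ ≫ m) (fun z φ _ => Functor.map_comp _ _ _)
    (fun z z' χ φ _ _ => Category.assoc _ _ _)
  exact (ht m ⟨rfl, fun z φ _ => rfl⟩).trans (ht m' ⟨hm.symm, fun z φ hφ => (he φ hφ).symm⟩).symm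

theorem sieve_mem_map {R : Sieve U} (H : _root_.Stk.sieveCat R ⥤ᵇ 𝒳) {a b : (_root_.Stk.sieveCat R).obj}
    (m : a ⟶ b) : (_root_.Stk.sieveCat R).p.map m ≫ b.obj.hom = a.obj.hom := Over.w m.hom

theorem refine_stackFor (h : IsFibGrpd 𝒳.p) {S R : Sieve U} (hSR : S ≤ R)
    (hS : _root_.Stk.IsStackFor S 𝒳)
    (hR : ∀ ⦃V : C⦄ (f : V ⟶ U), R f → _root_.Stk.IsPrestackFor (S.pullback f) 𝒳) :
    _root_.Stk.IsStackFor R 𝒳 := by
  rw [stackFor_iff h] at hS ⊢
  have hloc : ∀ ⦃V : C⦄ (f : V ⟶ U), R f → HomGlue 𝒳.p (S.pullback f) := fun V f hf =>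
    (prestackFor_iff h).1 (hR f hf)
  refine ⟨fun x y hx hy M hM hMn => ?_, fun H => ?_⟩
  · obtain ⟨θ, ⟨hv, hθ⟩, hu⟩ := hS.1 x y hx hy (fun z φ hφ => M φ (hSR _ hφ))
      (fun z φ hφ => hM φ (hSR _ hφ)) (fun z z' χ φ h₁ h₂ => hMn χ φ (hSR _ h₁) (hSR _ h₂))
    refine ⟨θ, ⟨hv, fun z φ hφ => ?_⟩, fun θ' ⟨hv', hθ'⟩ => hu θ' ⟨hv', fun z φ hφ => hθ' φ _⟩⟩
    refine eq_of_homGlue h (hloc _ hφ) ?_ fun w χ hχ => ?_
    · rw [Functor.map_comp, hv.map_eq, hM]
    · have h1 : S (𝒳.p.map (χ ≫ φ) ≫ eqToHom hx) := by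
        rw [Functor.map_comp, Category.assoc]; exact hχ
      rw [← Category.assoc, hθ _ h1, hMn χ φ hφ]
  · let L : _root_.Stk.sieveCat S ⥤ᵇ _root_.Stk.sieveCat R :=
      { toFunctor :=
          { obj := fun a => ⟨a.obj, hSR _ a.property⟩
            map := fun m => ObjectProperty.homMk m.hom }
        w := rfl }
    obtain ⟨c⟩ := hS.2 (BasedFunctor.comp L H)
    have key : ∀ (a : (_root_.Stk.sieveCat R).obj) ⦃z : 𝒳.obj⦄ (φ : z ⟶ H.obj a),
        S ((𝒳.p.map φ ≫ eqToHom (pobj H a)) ≫ a.obj.hom) →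
        ∃ w : z ⟶ c.pt, ∀ (s : (_root_.Stk.sieveCat S).obj) (k : L.obj s ⟶ a) (t : z ⟶ H.obj (L.obj s)),
          t ≫ H.map k = φ → w = t ≫ c.map s := by
      intro a z φ hφ
      let s₀ : (_root_.Stk.sieveCat S).obj := ⟨Over.mk ((𝒳.p.map φ ≫ eqToHom (pobj H a)) ≫ a.obj.hom), hφ⟩
      let k₀ : L.obj s₀ ⟶ a := ObjectProperty.homMk (Over.homMk (𝒳.p.map φ ≫ eqToHom (pobj H a)) rfl)
      obtain ⟨t₀, h₀, h₀'⟩ := sc_exists (h.isStronglyCartesian (H.map k₀)) φ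
        (eqToHom (pobj H (L.obj s₀)).symm) (by
          rw [pmap, show (_root_.Stk.sieveCat R).p.map k₀ = 𝒳.p.map φ ≫ eqToHom (pobj H a) from rfl]; simp)
      refine ⟨t₀ ≫ c.map s₀, fun s k t ht => ?_⟩
      have e1 := congrArg 𝒳.p.map ht
      rw [Functor.map_comp, pmap] at e1
      let l : s₀ ⟶ s := ObjectProperty.homMk (Over.homMk (𝒳.p.map t ≫ eqToHom (pobj H (L.obj s))) (by
        show (𝒳.p.map t ≫ eqToHom (pobj H (L.obj s))) ≫ s.obj.hom = (𝒳.p.map φ ≫ eqToHom (pobj H a)) ≫ a.obj.hom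
        rw [← e1, show s.obj.hom = (_root_.Stk.sieveCat R).p.map k ≫ a.obj.hom from (sieve_mem_map H k).symm]
        simp))
      have e : t₀ ≫ H.map (L.map l) = t := by
        refine sc_ext (h.isStronglyCartesian (H.map k)) ?_ ?_
        · rw [Functor.map_comp, h₀, pmap,
            show (_root_.Stk.sieveCat R).p.map (L.map l) = 𝒳.p.map t ≫ eqToHom (pobj H (L.obj s)) from rfl]
          simp
        · rw [Category.assoc, ← H.toFunctor.map_comp, ht]
          have : L.map l ≫ k = k₀ := ObjectProperty.hom_ext _ (Over.OverMorphism.ext (by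
            show (𝒳.p.map t ≫ eqToHom (pobj H (L.obj s))) ≫ (_root_.Stk.sieveCat R).p.map k =
              𝒳.p.map φ ≫ eqToHom (pobj H a)
            rw [← e1]; simp))
          rw [this, h₀']
      rw [← e, Category.assoc]
      exact congrArg (t₀ ≫ ·) (c.natural l).symm
    choose N hN using key
    have exist : ∀ (a : (_root_.Stk.sieveCat R).obj) ⦃z : 𝒳.obj⦄ (φ : z ⟶ H.obj a),
        S ((𝒳.p.map φ ≫ eqToHom (pobj H a)) ≫ a.obj.hom) →
        ∃ (s : (_root_.Stk.sieveCat S).obj) (k : L.obj s ⟶ a) (t : z ⟶ H.obj (L.obj s)), t ≫ H.map k = φ := by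
      intro a z φ hφ
      let s₀ : (_root_.Stk.sieveCat S).obj := ⟨Over.mk ((𝒳.p.map φ ≫ eqToHom (pobj H a)) ≫ a.obj.hom), hφ⟩
      let k₀ : L.obj s₀ ⟶ a := ObjectProperty.homMk (Over.homMk (𝒳.p.map φ ≫ eqToHom (pobj H a)) rfl)
      obtain ⟨t₀, -, h₀'⟩ := sc_exists (h.isStronglyCartesian (H.map k₀)) φ
        (eqToHom (pobj H (L.obj s₀)).symm) (by
          rw [pmap, show (_root_.Stk.sieveCat R).p.map k₀ = 𝒳.p.map φ ≫ eqToHom (pobj H a) from rfl]; simp)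
      exact ⟨s₀, k₀, t₀, h₀'⟩
    have key2 : ∀ a : (_root_.Stk.sieveCat R).obj, ∃! θ : H.obj a ⟶ c.pt,
        𝒳.p.map θ = eqToHom (pobj H a) ≫ a.obj.hom ≫ eqToHom c.over.symm ∧
        ∀ ⦃z : 𝒳.obj⦄ (φ : z ⟶ H.obj a)
          (hφ : S.pullback (eqToHom (pobj H a) ≫ a.obj.hom) (𝒳.p.map φ)),
          φ ≫ θ = N a φ (by simpa using hφ) := by
      intro a
      refine (hloc _ (R.downward_closed a.property (eqToHom (pobj H a)))).over h _ _
        (fun z φ hφ => ?_) (fun z z' χ φ h₁ h₂ => ?_)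
      · obtain ⟨s, k, t, ht⟩ := exist a φ (by simpa using hφ)
        rw [hN a φ _ s k t ht, Functor.map_comp, c.proj]
        rw [show s.obj.hom = (_root_.Stk.sieveCat R).p.map k ≫ a.obj.hom from (sieve_mem_map H k).symm]
        conv_rhs => rw [← ht, Functor.map_comp, pmap]
        simp
      · obtain ⟨s, k, t, ht⟩ := exist a φ (by simpa using h₁)
        rw [hN a φ _ s k t ht, hN a _ _ s k (χ ≫ t) (by rw [Category.assoc, ht]), Category.assoc]
    choose θ hθ hθu using key2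
    refine ⟨⟨c.pt, c.over, θ, fun a => (hθ a).1, fun {a b} m => ?_⟩⟩
    refine eq_of_homGlue h (hloc _ (R.downward_closed a.property (eqToHom (pobj H a)))) ?_ fun z φ hφ => ?_
    · rw [Functor.map_comp, (hθ b).1, (hθ a).1, pmap,
        show a.obj.hom = (_root_.Stk.sieveCat R).p.map m ≫ b.obj.hom from (sieve_mem_map H m).symm]
      simp
    · have hb : S.pullback (eqToHom (pobj H b) ≫ b.obj.hom) (𝒳.p.map (φ ≫ H.map m)) := by
        rw [Functor.map_comp, pmap, Sieve.pullback_apply]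
        simpa [sieve_mem_map H m] using hφ
      obtain ⟨s, k, t, ht⟩ := exist a φ (by simpa using hφ)
      rw [← Category.assoc, (hθ b).2 _ hb, (hθ a).2 _ hφ, hN a φ _ s k t ht,
        hN b _ _ s (k ≫ m) t (by rw [H.toFunctor.map_comp, ← Category.assoc, ht])]

section Psh

variable (P : Cᵒᵖ ⥤ Type w)

theorem pcomp {V₁ V₂ V₃ : C} (g : V₁ ⟶ V₂) (f : V₂ ⟶ V₃) (x : P.obj (op V₃)) :
    P.map g.op (P.map f.op x) = P.map (g ≫ f).op x := by
  rw [op_comp, Functor.map_comp_apply]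

theorem elt_sec {a b : _root_.Stk.EltObj P} (h : a = b) (e : a.base = b.base) :
    P.map (eqToHom e).op b.sec = a.sec := by
  subst h; simp

theorem psh_homGlue_of_separated {R : Sieve U} (hP : Presieve.IsSeparatedFor P R.arrows) :
    HomGlue (𝒳 := _root_.Stk.ofPsh P) (_root_.Stk.ofPsh P).p R := by
  intro x y hx hy M hM hMn
  change x.base = U at hx
  change y.base = U at hy
  have hxy : P.map (eqToHom (hx.trans hy.symm)).op y.sec = x.sec := by
    have : P.map (eqToHom hy.symm).op y.sec = P.map (eqToHom hx.symm).op x.sec := by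
      refine hP.ext fun V f hf => ?_
      let z : _root_.Stk.EltObj P := ⟨V, P.map (f ≫ eqToHom hx.symm).op x.sec⟩
      let φ : z ⟶ x := ⟨f ≫ eqToHom hx.symm, rfl⟩
      have hφ : R ((_root_.Stk.EltObj.forget P).map φ ≫ eqToHom hx) := by
        simpa [φ] using hf
      have e := (M φ hφ).map_sec
      rw [show (M φ hφ).hom = (f ≫ eqToHom hx.symm) ≫ eqToHom (hx.trans hy.symm) from hM φ hφ] at e
      simp only [z] at e
      rw [← Functor.map_comp_apply, ← op_comp, ← Functor.map_comp_apply, ← op_comp]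
      simpa using e
    have h2 := congrArg (P.map (eqToHom hx).op) this
    rw [← Functor.map_comp_apply, ← op_comp, ← Functor.map_comp_apply, ← op_comp] at h2
    simpa using h2
  refine ⟨⟨eqToHom (hx.trans hy.symm), hxy⟩, ⟨⟨hx.trans hy.symm, rfl⟩, fun z φ hφ => ?_⟩, fun θ' ⟨hv, _⟩ => ?_⟩
  · exact _root_.Stk.EltObj.hom_ext (hM φ hφ).symm
  · exact _root_.Stk.EltObj.hom_ext hv.2

theorem psh_objGlue_of_sheaf {R : Sieve U} (hP : Presieve.IsSheafFor P R.arrows) :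
    ObjGlue (_root_.Stk.ofPsh P) R := by
  intro H
  let a0 : ∀ ⦃V : C⦄ (f : V ⟶ U), R f → (_root_.Stk.sieveCat R).obj := fun V f hf => ⟨Over.mk f, hf⟩
  let s : Presieve.FamilyOfElements P R.arrows := fun V f hf =>
    P.map (eqToHom (pobj H (a0 f hf)).symm).op (H.obj (a0 f hf)).sec
  have hs : s.Compatible := by
    rw [Presieve.compatible_iff_sieveCompatible]
    intro Y Z f g hf
    let m : a0 (g ≫ f) (R.downward_closed hf g) ⟶ a0 f hf := ObjectProperty.homMk (Over.homMk g rfl)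
    have e := (H.map m).map_sec
    rw [show (H.map m).hom = eqToHom (pobj H (a0 _ _)) ≫ g ≫ eqToHom (pobj H (a0 f hf)).symm from pmap H m] at e
    simp only [s]
    rw [← e]
    refine (pcomp P _ _ _).trans (Eq.trans ?_ (pcomp P g _ _).symm)
    have e2 : eqToHom (pobj H (a0 (g ≫ f) (R.downward_closed hf g))).symm ≫
        eqToHom (pobj H (a0 (g ≫ f) (R.downward_closed hf g))) ≫ g ≫ eqToHom (pobj H (a0 f hf)).symm =
          g ≫ eqToHom (pobj H (a0 f hf)).symm := by simp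
    exact congrArg (fun k => P.map k.op (H.obj (a0 f hf)).sec) e2
  have hmap : ∀ a : (_root_.Stk.sieveCat R).obj,
      P.map (eqToHom (pobj H a) ≫ a.obj.hom).op (hP.amalgamate s hs) = (H.obj a).sec := by
    intro a
    refine ((pcomp P _ _ _).symm.trans (congrArg _ (hP.valid_glue hs a.obj.hom a.property))).trans ?_
    show P.map _ (P.map (eqToHom (pobj H a).symm).op (H.obj a).sec) = _
    refine (pcomp P _ _ _).trans ?_
    simp
  refine ⟨⟨(⟨U, hP.amalgamate s hs⟩ : _root_.Stk.EltObj P), rfl,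
    fun a => ⟨eqToHom (pobj H a) ≫ a.obj.hom, hmap a⟩, fun a => ?_, fun {a b} m => _root_.Stk.EltObj.hom_ext ?_⟩⟩
  · simp
  · show (H.map m).hom ≫ eqToHom (pobj H b) ≫ b.obj.hom = eqToHom (pobj H a) ≫ a.obj.hom
    rw [show (H.map m).hom = _ from pmap H m, ← sieve_mem_map H m]
    simp

theorem sheaf_of_glue {R : Sieve U} (h1 : HomGlue (𝒳 := _root_.Stk.ofPsh P) (_root_.Stk.ofPsh P).p R)
    (h2 : ObjGlue (_root_.Stk.ofPsh P) R) : Presieve.IsSheafFor P R.arrows := by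
  intro s hs
  rw [Presieve.compatible_iff_sieveCompatible] at hs
  let K : (_root_.Stk.sieveCat R).obj ⥤ (_root_.Stk.ofPsh P).obj :=
    { obj := fun a => ⟨a.obj.left, s a.obj.hom a.property⟩
      map := fun {a b} m => ⟨m.hom.left, by
        rw [← hs b.obj.hom m.hom.left b.property]
        congr 1
        exact Over.w m.hom⟩
      map_id := fun a => _root_.Stk.EltObj.hom_ext rfl
      map_comp := fun f g => _root_.Stk.EltObj.hom_ext rfl }
  obtain ⟨c⟩ := h2 { toFunctor := K, w := rfl }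
  have hc : c.pt.base = U := c.over
  refine ⟨P.map (eqToHom hc.symm).op c.pt.sec, fun V f hf => ?_, fun t ht => ?_⟩
  · have e := (c.map ⟨Over.mk f, hf⟩).map_sec
    rw [show (c.map ⟨Over.mk f, hf⟩).hom = eqToHom _ ≫ f ≫ eqToHom c.over.symm from c.proj _] at e
    rw [← Functor.map_comp_apply, ← op_comp]
    exact (by simpa [K] using e)
  · let x : _root_.Stk.EltObj P := ⟨U, t⟩
    obtain ⟨θ, ⟨hv, -⟩, -⟩ := h1 x c.pt rfl c.over
      (fun z φ hφ => ⟨φ.hom ≫ eqToHom hc.symm, by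
        have hφ' : R φ.hom := by simpa [x] using hφ
        have e := (c.map ⟨Over.mk φ.hom, hφ'⟩).map_sec
        rw [show (c.map ⟨Over.mk φ.hom, hφ'⟩).hom = eqToHom _ ≫ φ.hom ≫ eqToHom c.over.symm from c.proj _] at e
        have e2 := ht φ.hom hφ'
        rw [show P.map φ.hom.op t = z.sec from φ.map_sec] at e2
        rw [e2]
        exact (by simpa [K] using e)⟩)
      (fun z φ hφ => rfl) (fun z z' χ φ _ _ => _root_.Stk.EltObj.hom_ext (Category.assoc _ _ _))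
    have := θ.map_sec
    rw [show θ.hom = eqToHom hc.symm from hv.2] at this
    exact this.symm

theorem psh_stack_iff (J : GrothendieckTopology C) :
    _root_.Stk.IsStack J (_root_.Stk.ofPsh P) ↔ Presieve.IsSheaf J P := by
  rw [stack_iff]
  exact ⟨fun h X R hR => sheaf_of_glue P (h.2 R hR).1 (h.2 R hR).2, fun h =>
    ⟨_root_.Stk.isFibGrpd_ofPsh P, fun X R hR => ⟨psh_homGlue_of_separated P (h R hR).isSeparatedFor,
      psh_objGlue_of_sheaf P (h R hR)⟩⟩⟩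

theorem overCat_stack_iff (J : GrothendieckTopology C) (U : C) :
    _root_.Stk.IsStack J (overCat U) ↔ Presieve.IsSheaf J (yoneda.obj U) := by
  let F : overCat U ⥤ᵇ _root_.Stk.ofPsh (yoneda.obj U) :=
    { toFunctor :=
        { obj := fun a => ⟨a.left, a.hom⟩
          map := fun m => ⟨m.left, Over.w m⟩
          map_id := fun a => _root_.Stk.EltObj.hom_ext rfl
          map_comp := fun f g => _root_.Stk.EltObj.hom_ext rfl }
      w := rfl }
  rw [← psh_stack_iff]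
  refine stack_iff_of_equiv F (isEquivOver_mk F (fun {a b} ψ => ?_) (fun φ φ' e => ?_) fun η => ?_)
  · exact ⟨Over.homMk ψ.hom ψ.map_sec, _root_.Stk.EltObj.hom_ext rfl⟩
  · exact Over.OverMorphism.ext (congrArg (fun m => m.hom) e)
  · exact ⟨Over.mk η.sec, Iso.refl _, Vert.id _⟩

end Psh

end Groth.Agent.H7.Stk.Glue
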