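import Groth.Agent.H7.Stk.Psh
import Mathlib.CategoryTheory.Sites.CoverPreserving
import Mathlib.CategoryTheory.Limits.Preserves.Shapes.Pullbacks

/-! The inverse image of a stack along a functor of sites. -/

set_option autoImplicit false
set_option backward.isDefEq.respectTransparency false
set_option backward.isDefEq.respectTransparency.types false

universe v₃ u₃ v₂ u₂ v u

open CategoryTheory CategoryTheory.Functor CategoryTheory.Limits FibCat
open Groth.Agent.LeadFibCat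

namespace Groth.Agent.H7.Stk.Glue

variable {C : Type u} [Category.{v} C] {D : Type u₂} [Category.{v₂} D] (u : C ⥤ D)
  (𝒮 : BasedCategory.{v₃, u₃} D)

/-- the category over `C` pulled back along `u` -/
abbrev pullCat : BasedCategory.{max v v₃, max u u₃ v₂} C :=
  BasedCategory.ofFunctor (CategoricalPullback.π₁ u 𝒮.p)

variable {u 𝒮}

theorem pull_map_snd {a b : (pullCat u 𝒮).obj} (φ : a ⟶ b) :
    𝒮.p.map φ.snd = a.iso.inv ≫ u.map φ.fst ≫ b.iso.hom := by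
  rw [Iso.eq_inv_comp]; exact φ.w.symm

theorem pull_fibGrpd (h : IsFibGrpd 𝒮.p) : IsFibGrpd (pullCat u 𝒮).p := by
  refine isFibGrpd_mk (fun {x V} f => ?_) (fun {y x} φ => sc_mk φ (fun {z} ψ g hg => ?_)
    (fun {z} χ χ' h₁ h₂ => ?_))
  · obtain ⟨z, l, e, he⟩ := exists_lift' h (x := x.snd) (u.map f ≫ x.iso.hom)
    refine ⟨⟨V, z, eqToIso e.symm⟩, ⟨f, l, ?_⟩, rfl, (Category.id_comp _).symm⟩
    simp [he]
  · change g ≫ φ.fst = ψ.fst at hg
    obtain ⟨χ, h1, h2⟩ := sc_exists (h.isStronglyCartesian φ.snd) ψ.snd (z.iso.inv ≫ u.map g ≫ y.iso.hom)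
      (by rw [pull_map_snd, pull_map_snd, ← hg]; simp)
    exact ⟨⟨g, χ, by rw [h1]; simp⟩, rfl, CategoricalPullback.hom_ext hg h2⟩
  · change χ.fst = χ'.fst at h₁
    exact CategoricalPullback.hom_ext h₁ (sc_ext (h.isStronglyCartesian φ.snd)
      (by rw [pull_map_snd, pull_map_snd, h₁]) (congrArg (fun m => m.snd) h₂))

section

variable [HasPullbacks C] [PreservesLimitsOfShape WalkingCospan u] (h : IsFibGrpd 𝒮.p)

omit [HasPullbacks C] [PreservesLimitsOfShape WalkingCospan u] in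
theorem top_fst {U : C} {a : (pullCat u 𝒮).obj} {Y : (pullCat u 𝒮).obj} (φ : a ⟶ Y) (hY : Y.fst = U) :
    (pullCat u 𝒮).p.map φ ≫ eqToHom hY = φ.fst ≫ eqToHom hY := rfl

include h in
theorem pull_homGlue {U : C} {R : Sieve U}
    (hg : ∀ {W : D} (g : W ⟶ u.obj U), HomGlue 𝒮.p ((R.functorPushforward u).pullback g)) :
    HomGlue (pullCat u 𝒮).p R := by
  have hfib := pull_fibGrpd (u := u) h
  intro X X' hx hx' M hM hMn
  change X.fst = U at hx
  change X'.fst = U at hx'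
  let base : 𝒮.p.obj X.snd ⟶ u.obj U := X.iso.inv ≫ u.map (eqToHom hx)
  have key : ∀ ⦃z : 𝒮.obj⦄ (ψ : z ⟶ X.snd), ((R.functorPushforward u).pullback base) (𝒮.p.map ψ) →
      ∃ (P : (pullCat u 𝒮).obj) (φ : P ⟶ X) (_ : R ((pullCat u 𝒮).p.map φ ≫ eqToHom hx)) (t : z ⟶ P.snd),
        t ≫ φ.snd = ψ := by
    intro z ψ hψ
    obtain ⟨V, f, g, hf, e⟩ := hψ
    obtain ⟨P, φ, eP, hφ⟩ := exists_lift' hfib (x := X) (f ≫ eqToHom hx.symm)
    change P.fst = V at eP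
    change φ.fst = eqToHom eP ≫ f ≫ eqToHom hx.symm at hφ
    obtain ⟨t, -, ht⟩ := sc_exists (h.isStronglyCartesian φ.snd) ψ (g ≫ u.map (eqToHom eP.symm) ≫ P.iso.hom) (by
      rw [pull_map_snd, hφ]
      have e2 : 𝒮.p.map ψ ≫ X.iso.inv ≫ u.map (eqToHom hx) = g ≫ u.map f := e
      rw [← cancel_mono X.iso.inv, ← cancel_mono (u.map (eqToHom hx))]
      simp only [Category.assoc, e2]
      simp [eqToHom_map])
    refine ⟨P, φ, ?_, t, ht⟩
    rw [top_fst, hφ]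
    simpa using R.downward_closed hf (eqToHom eP)
  choose P Φ hΦ T hT using key
  have good : ∀ ⦃z : 𝒮.obj⦄ (ψ : z ⟶ X.snd) (hψ) (Q : (pullCat u 𝒮).obj) (φ : Q ⟶ X)
      (hφ : R ((pullCat u 𝒮).p.map φ ≫ eqToHom hx)) (t : z ⟶ Q.snd), t ≫ φ.snd = ψ →
      t ≫ (M φ hφ).snd = T ψ hψ ≫ (M (Φ ψ hψ) (hΦ ψ hψ)).snd := by
    intro z ψ hψ Q φ hφ t ht
    let Φ' := Φ ψ hψ
    have e : (𝒮.p.map t ≫ Q.iso.inv) ≫ u.map φ.fst = (𝒮.p.map (T ψ hψ) ≫ (P ψ hψ).iso.inv) ≫ u.map Φ'.fst := by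
      rw [← cancel_mono X.iso.hom]
      simp only [Category.assoc, ← pull_map_snd, ← Functor.map_comp, ht, hT, Φ']
    let pb := (isLimitPullbackConeMapOfIsLimit u pullback.condition (pullbackIsPullback φ.fst Φ'.fst))
    let l := PullbackCone.IsLimit.lift pb _ _ e
    have hl1 : l ≫ u.map (pullback.fst φ.fst Φ'.fst) = 𝒮.p.map t ≫ Q.iso.inv :=
      PullbackCone.IsLimit.lift_fst pb _ _ e
    have hl2 : l ≫ u.map (pullback.snd φ.fst Φ'.fst) = 𝒮.p.map (T ψ hψ) ≫ (P ψ hψ).iso.inv :=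
      PullbackCone.IsLimit.lift_snd pb _ _ e
    obtain ⟨Q₀, c₁, e₀, hc₁⟩ := exists_lift' hfib (x := Q) (pullback.fst φ.fst Φ'.fst)
    change Q₀.fst = _ at e₀
    change c₁.fst = eqToHom e₀ ≫ _ at hc₁
    obtain ⟨c₂, hc₂, hc₂'⟩ := sc_exists (hfib.isStronglyCartesian Φ') (c₁ ≫ φ)
      (eqToHom e₀ ≫ pullback.snd φ.fst Φ'.fst) (by
        show (eqToHom e₀ ≫ pullback.snd φ.fst Φ'.fst) ≫ Φ'.fst = c₁.fst ≫ φ.fst
        rw [hc₁, Category.assoc, Category.assoc, pullback.condition])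
    change c₂.fst = _ at hc₂
    obtain ⟨t₀, ht₀, ht₀'⟩ := sc_exists (h.isStronglyCartesian c₁.snd) t
      (l ≫ u.map (eqToHom e₀.symm) ≫ Q₀.iso.hom) (by
        rw [pull_map_snd, hc₁]
        simp [eqToHom_map, reassoc_of% hl1])
    have e2 : t₀ ≫ c₂.snd = T ψ hψ := by
      refine sc_ext (h.isStronglyCartesian Φ'.snd) ?_ ?_
      · rw [Functor.map_comp, ht₀, pull_map_snd c₂, hc₂]
        simp [eqToHom_map, reassoc_of% hl2]
      · rw [Category.assoc, ← CategoricalPullback.comp_snd, hc₂', CategoricalPullback.comp_snd,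
          reassoc_of% ht₀', ht, hT]
    have h1 : R ((pullCat u 𝒮).p.map (c₁ ≫ φ) ≫ eqToHom hx) := by
      rw [Functor.map_comp, Category.assoc]; exact R.downward_closed hφ _
    have m1 := hMn c₁ φ hφ h1
    have m2 := hMn c₂ Φ' (hΦ ψ hψ) (by rw [hc₂']; exact h1)
    simp only [hc₂'] at m2
    rw [← ht₀', ← e2, Category.assoc, Category.assoc, ← CategoricalPullback.comp_snd, ← m1, m2,
      CategoricalPullback.comp_snd]
  let g₀ : 𝒮.p.obj X.snd ⟶ 𝒮.p.obj X'.snd := X.iso.inv ≫ u.map (eqToHom (hx.trans hx'.symm)) ≫ X'.iso.hom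
  obtain ⟨θ, ⟨hθ, hθ'⟩, hu⟩ := (hg base).over h g₀
    (fun z ψ hψ => T ψ hψ ≫ (M (Φ ψ hψ) (hΦ ψ hψ)).snd)
    (fun z ψ hψ => by
      rw [Functor.map_comp, pull_map_snd (M _ _)]
      conv_rhs => rw [← hT ψ hψ, Functor.map_comp, pull_map_snd]
      rw [show (M (Φ ψ hψ) (hΦ ψ hψ)).fst = (Φ ψ hψ).fst ≫ eqToHom (hx.trans hx'.symm) from hM _ _]
      simp [g₀])
    (fun z z' χ ψ h₁ h₂ => by
      rw [← good (χ ≫ ψ) h₂ (P ψ h₁) (Φ ψ h₁) (hΦ ψ h₁) (χ ≫ T ψ h₁) (by rw [Category.assoc, hT]),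
        Category.assoc])
  refine ⟨⟨eqToHom (hx.trans hx'.symm), θ, by rw [hθ]; simp [g₀]⟩,
    ⟨⟨hx.trans hx'.symm, rfl⟩, fun Q φ hφ => ?_⟩, fun θ₁ ⟨hv₁, hθ₁⟩ => ?_⟩
  · have hψ : ((R.functorPushforward u).pullback base) (𝒮.p.map φ.snd) := by
      show (R.functorPushforward u) (𝒮.p.map φ.snd ≫ base)
      refine ⟨Q.fst, φ.fst ≫ eqToHom hx, Q.iso.inv, hφ, ?_⟩
      rw [pull_map_snd]; simp [base]
    refine CategoricalPullback.hom_ext (hM φ hφ).symm ?_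
    show φ.snd ≫ θ = _
    rw [hθ' φ.snd hψ, ← good φ.snd hψ Q φ hφ (𝟙 _) (Category.id_comp _), Category.id_comp]
  · have h1 : θ₁.fst = eqToHom (hx.trans hx'.symm) := hv₁.2
    refine CategoricalPullback.hom_ext h1 (hu θ₁.snd ⟨?_, fun z ψ hψ => ?_⟩)
    · rw [pull_map_snd, h1]
    · show ψ ≫ θ₁.snd = T ψ hψ ≫ (M (Φ ψ hψ) (hΦ ψ hψ)).snd
      rw [← hθ₁ (Φ ψ hψ) (hΦ ψ hψ), CategoricalPullback.comp_snd, ← Category.assoc, hT]

variable {U : C} {R : Sieve U} (H : _root_.Stk.sieveCat R ⥤ᵇ pullCat u 𝒮)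

omit [HasPullbacks C] [PreservesLimitsOfShape WalkingCospan u] in
/-- the comparison with the image of an arrow of the sieve -/
noncomputable def hb {z : 𝒮.obj} {a : (_root_.Stk.sieveCat R).obj} (t : z ⟶ (H.obj a).snd) :
    𝒮.p.obj z ⟶ u.obj a.obj.left :=
  𝒮.p.map t ≫ (H.obj a).iso.inv ≫ u.map (eqToHom (pobj H a))

omit [HasPullbacks C] [PreservesLimitsOfShape WalkingCospan u] in
theorem hb_map {z : 𝒮.obj} {a b : (_root_.Stk.sieveCat R).obj} (t : z ⟶ (H.obj a).snd) (k : a ⟶ b) :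
    hb H (t ≫ (H.map k).snd) = hb H t ≫ u.map k.hom.left := by
  have e : (H.map k).fst = eqToHom (pobj H a) ≫ k.hom.left ≫ eqToHom (pobj H b).symm := pmap H k
  simp [hb, pull_map_snd, e, eqToHom_map]

omit [HasPullbacks C] [PreservesLimitsOfShape WalkingCospan u] in
theorem hb_comp {z z' : 𝒮.obj} {a : (_root_.Stk.sieveCat R).obj} (χ : z' ⟶ z) (t : z ⟶ (H.obj a).snd) :
    hb H (χ ≫ t) = 𝒮.p.map χ ≫ hb H t := by
  simp [hb]

omit [HasPullbacks C] [PreservesLimitsOfShape WalkingCospan u] in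
include h in
theorem hb_lift {z : 𝒮.obj} {a b : (_root_.Stk.sieveCat R).obj} (t : z ⟶ (H.obj b).snd) (k : a ⟶ b)
    (l : 𝒮.p.obj z ⟶ u.obj a.obj.left) (hl : l ≫ u.map k.hom.left = hb H t) :
    ∃ t₀ : z ⟶ (H.obj a).snd, t₀ ≫ (H.map k).snd = t ∧ hb H t₀ = l := by
  have e : (H.map k).fst = eqToHom (pobj H a) ≫ k.hom.left ≫ eqToHom (pobj H b).symm := pmap H k
  obtain ⟨t₀, h1, h2⟩ := sc_exists (h.isStronglyCartesian (H.map k).snd) t
    (l ≫ u.map (eqToHom (pobj H a).symm) ≫ (H.obj a).iso.hom) (by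
      rw [pull_map_snd, e]
      simp [reassoc_of% hl, hb, eqToHom_map])
  exact ⟨t₀, h2, by simp [hb, h1, eqToHom_map]⟩

omit [HasPullbacks C] [PreservesLimitsOfShape WalkingCospan u] in
include h in
theorem hb_ext {z : 𝒮.obj} {a b : (_root_.Stk.sieveCat R).obj} {t t' : z ⟶ (H.obj a).snd} (k : a ⟶ b)
    (e₁ : hb H t = hb H t') (e₂ : t ≫ (H.map k).snd = t' ≫ (H.map k).snd) : t = t' := by
  refine sc_ext (h.isStronglyCartesian (H.map k).snd) ?_ e₂
  simpa [hb, cancel_mono] using e₁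

/-- two lifts come from a common one -/
def Linked {z : 𝒮.obj} {a b : (_root_.Stk.sieveCat R).obj} (t : z ⟶ (H.obj a).snd)
    (t' : z ⟶ (H.obj b).snd) : Prop :=
  ∃ (c : (_root_.Stk.sieveCat R).obj) (k : c ⟶ a) (k' : c ⟶ b) (t₀ : z ⟶ (H.obj c).snd),
    t₀ ≫ (H.map k).snd = t ∧ t₀ ≫ (H.map k').snd = t'

omit [HasPullbacks C] [PreservesLimitsOfShape WalkingCospan u] in
theorem Linked.symm {z : 𝒮.obj} {a b : (_root_.Stk.sieveCat R).obj} {t : z ⟶ (H.obj a).snd}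
    {t' : z ⟶ (H.obj b).snd} (e : Linked H t t') : Linked H t' t := by
  obtain ⟨c, k, k', t₀, h1, h2⟩ := e
  exact ⟨c, k', k, t₀, h2, h1⟩

omit [HasPullbacks C] [PreservesLimitsOfShape WalkingCospan u] in
theorem Linked.map {z : 𝒮.obj} {a b : (_root_.Stk.sieveCat R).obj} (t : z ⟶ (H.obj a).snd) (k : a ⟶ b) :
    Linked H t (t ≫ (H.map k).snd) :=
  ⟨a, 𝟙 a, k, t, by rw [H.toFunctor.map_id, CategoricalPullback.id_snd, Category.comp_id], rfl⟩

omit [HasPullbacks C] [PreservesLimitsOfShape WalkingCospan u] in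
theorem Linked.comp {z z' : 𝒮.obj} {a b : (_root_.Stk.sieveCat R).obj} {t : z ⟶ (H.obj a).snd}
    {t' : z ⟶ (H.obj b).snd} (e : Linked H t t') (χ : z' ⟶ z) : Linked H (χ ≫ t) (χ ≫ t') := by
  obtain ⟨c, k, k', t₀, h1, h2⟩ := e
  exact ⟨c, k, k', χ ≫ t₀, by rw [Category.assoc, h1], by rw [Category.assoc, h2]⟩

omit [HasPullbacks C] [PreservesLimitsOfShape WalkingCospan u] in
theorem Linked.hb_eq {z : 𝒮.obj} {a b : (_root_.Stk.sieveCat R).obj} {t : z ⟶ (H.obj a).snd}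
    {t' : z ⟶ (H.obj b).snd} (e : Linked H t t') : hb H t ≫ u.map a.obj.hom = hb H t' ≫ u.map b.obj.hom := by
  obtain ⟨c, k, k', t₀, rfl, rfl⟩ := e
  rw [hb_map, hb_map, Category.assoc, Category.assoc, ← u.map_comp, ← u.map_comp, Over.w k.hom, Over.w k'.hom]

include h in
theorem exists_linked {z : 𝒮.obj} {a b : (_root_.Stk.sieveCat R).obj} (t : z ⟶ (H.obj a).snd)
    (l : 𝒮.p.obj z ⟶ u.obj b.obj.left) (hl : hb H t ≫ u.map a.obj.hom = l ≫ u.map b.obj.hom) :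
    ∃ t' : z ⟶ (H.obj b).snd, Linked H t t' ∧ hb H t' = l := by
  let pb := (isLimitPullbackConeMapOfIsLimit u pullback.condition (pullbackIsPullback a.obj.hom b.obj.hom))
  let m := PullbackCone.IsLimit.lift pb _ _ hl
  let c : (_root_.Stk.sieveCat R).obj :=
    ⟨Over.mk (pullback.fst a.obj.hom b.obj.hom ≫ a.obj.hom), R.downward_closed a.property _⟩
  let k : c ⟶ a := ObjectProperty.homMk (Over.homMk (pullback.fst a.obj.hom b.obj.hom) rfl)
  let k' : c ⟶ b := ObjectProperty.homMk (Over.homMk (pullback.snd a.obj.hom b.obj.hom) pullback.condition.symm)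
  obtain ⟨t₀, ht₀, ht₀'⟩ := hb_lift h H t k m (PullbackCone.IsLimit.lift_fst pb _ _ hl)
  refine ⟨t₀ ≫ (H.map k').snd, ⟨c, k, k', t₀, ht₀, rfl⟩, ?_⟩
  rw [hb_map, ht₀']
  exact PullbackCone.IsLimit.lift_snd pb _ _ hl

include h in
theorem linked_unique {z : 𝒮.obj} {a b : (_root_.Stk.sieveCat R).obj} {t : z ⟶ (H.obj a).snd}
    {t₁ t₂ : z ⟶ (H.obj b).snd} (e₁ : Linked H t t₁) (e₂ : Linked H t t₂) (e : hb H t₁ = hb H t₂) :
    t₁ = t₂ := by
  obtain ⟨c₁, k₁, k₁', s₁, h11, h12⟩ := e₁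
  obtain ⟨c₂, k₂, k₂', s₂, h21, h22⟩ := e₂
  let c : (_root_.Stk.sieveCat R).obj :=
    ⟨Over.mk (pullback.fst a.obj.hom b.obj.hom ≫ a.obj.hom), R.downward_closed a.property _⟩
  let k : c ⟶ a := ObjectProperty.homMk (Over.homMk (pullback.fst a.obj.hom b.obj.hom) rfl)
  let k' : c ⟶ b := ObjectProperty.homMk (Over.homMk (pullback.snd a.obj.hom b.obj.hom) pullback.condition.symm)
  have fac : ∀ (d : (_root_.Stk.sieveCat R).obj) (p₁ : d ⟶ a) (p₂ : d ⟶ b), ∃ q : d ⟶ c, q ≫ k = p₁ ∧ q ≫ k' = p₂ := by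
    intro d p₁ p₂
    have hw : p₁.hom.left ≫ a.obj.hom = p₂.hom.left ≫ b.obj.hom := (Over.w p₁.hom).trans (Over.w p₂.hom).symm
    refine ⟨ObjectProperty.homMk (Over.homMk (pullback.lift _ _ hw) ?_), ?_, ?_⟩
    · show pullback.lift _ _ hw ≫ pullback.fst a.obj.hom b.obj.hom ≫ a.obj.hom = d.obj.hom
      rw [← Category.assoc, pullback.lift_fst, Over.w p₁.hom]
    · exact ObjectProperty.hom_ext _ (Over.OverMorphism.ext (pullback.lift_fst _ _ hw))
    · exact ObjectProperty.hom_ext _ (Over.OverMorphism.ext (pullback.lift_snd _ _ hw))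
  obtain ⟨q₁, hq1, hq1'⟩ := fac c₁ k₁ k₁'
  obtain ⟨q₂, hq2, hq2'⟩ := fac c₂ k₂ k₂'
  have f1 : (s₁ ≫ (H.map q₁).snd) ≫ (H.map k).snd = t := by
    rw [Category.assoc, ← CategoricalPullback.comp_snd, ← H.toFunctor.map_comp, hq1, h11]
  have f2 : (s₂ ≫ (H.map q₂).snd) ≫ (H.map k).snd = t := by
    rw [Category.assoc, ← CategoricalPullback.comp_snd, ← H.toFunctor.map_comp, hq2, h21]
  have g1 : (s₁ ≫ (H.map q₁).snd) ≫ (H.map k').snd = t₁ := by
    rw [Category.assoc, ← CategoricalPullback.comp_snd, ← H.toFunctor.map_comp, hq1', h12]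
  have g2 : (s₂ ≫ (H.map q₂).snd) ≫ (H.map k').snd = t₂ := by
    rw [Category.assoc, ← CategoricalPullback.comp_snd, ← H.toFunctor.map_comp, hq2', h22]
  rw [← g1, ← g2]
  congr 1
  refine hb_ext h H k ?_ (f1.trans f2.symm)
  refine PullbackCone.IsLimit.hom_ext
    (isLimitPullbackConeMapOfIsLimit u pullback.condition (pullbackIsPullback a.obj.hom b.obj.hom)) ?_ ?_
  · exact ((hb_map H (s₁ ≫ (H.map q₁).snd) k).symm.trans (congrArg (hb H) (f1.trans f2.symm))).trans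
      (hb_map H (s₂ ≫ (H.map q₂).snd) k)
  · exact ((hb_map H (s₁ ≫ (H.map q₁).snd) k').symm.trans
      (((congrArg (hb H) g1).trans e).trans (congrArg (hb H) g2).symm)).trans
      (hb_map H (s₂ ≫ (H.map q₂).snd) k')

include h in
theorem linked_trans {z : 𝒮.obj} {a b d : (_root_.Stk.sieveCat R).obj} {t : z ⟶ (H.obj a).snd}
    {t' : z ⟶ (H.obj b).snd} {t'' : z ⟶ (H.obj d).snd} (e₁ : Linked H t t') (e₂ : Linked H t' t'') :
    Linked H t t'' := by
  obtain ⟨c₁, k₁, k₁', s₁, h11, h12⟩ := e₁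
  obtain ⟨c₂, k₂, k₂', s₂, h21, h22⟩ := e₂
  have e : hb H s₁ ≫ u.map k₁'.hom.left = hb H s₂ ≫ u.map k₂.hom.left := by rw [← hb_map, ← hb_map, h12, h21]
  let pb := (isLimitPullbackConeMapOfIsLimit u pullback.condition (pullbackIsPullback k₁'.hom.left k₂.hom.left))
  let m := PullbackCone.IsLimit.lift pb _ _ e
  let c : (_root_.Stk.sieveCat R).obj :=
    ⟨Over.mk (pullback.fst k₁'.hom.left k₂.hom.left ≫ c₁.obj.hom), R.downward_closed c₁.property _⟩
  let q₁ : c ⟶ c₁ := ObjectProperty.homMk (Over.homMk (pullback.fst k₁'.hom.left k₂.hom.left) rfl)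
  let q₂ : c ⟶ c₂ := ObjectProperty.homMk (Over.homMk (pullback.snd k₁'.hom.left k₂.hom.left) (by
    show pullback.snd k₁'.hom.left k₂.hom.left ≫ c₂.obj.hom = pullback.fst k₁'.hom.left k₂.hom.left ≫ c₁.obj.hom
    rw [← Over.w k₁'.hom, ← Over.w k₂.hom, ← Category.assoc, ← pullback.condition, Category.assoc]))
  obtain ⟨t₀, ht₀, ht₀'⟩ := hb_lift h H s₁ q₁ m (PullbackCone.IsLimit.lift_fst pb _ _ e)
  have e2 : t₀ ≫ (H.map q₂).snd = s₂ := by
    refine hb_ext h H k₂ ?_ ?_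
    · rw [hb_map, ht₀']; exact PullbackCone.IsLimit.lift_snd pb _ _ e
    · have : q₂ ≫ k₂ = q₁ ≫ k₁' := ObjectProperty.hom_ext _ (Over.OverMorphism.ext pullback.condition.symm)
      rw [Category.assoc, ← CategoricalPullback.comp_snd, ← H.toFunctor.map_comp, this, H.toFunctor.map_comp,
        CategoricalPullback.comp_snd, reassoc_of% ht₀, h12, h21]
  refine ⟨c, q₁ ≫ k₁, q₂ ≫ k₂', t₀, ?_, ?_⟩
  · rw [H.toFunctor.map_comp, CategoricalPullback.comp_snd, reassoc_of% ht₀, h11]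
  · rw [H.toFunctor.map_comp, CategoricalPullback.comp_snd, reassoc_of% e2, h22]

include h in
theorem pull_objGlue (hg : ObjGlue 𝒮 (R.functorPushforward u)) : Nonempty (Cocone H) := by
  let R' : Sieve (u.obj U) := R.functorPushforward u
  have rep : ∀ a : (_root_.Stk.sieveCat R').obj, ∃ (b : (_root_.Stk.sieveCat R).obj)
      (g : a.obj.left ⟶ u.obj b.obj.left), g ≫ u.map b.obj.hom = a.obj.hom := by
    intro a
    obtain ⟨V, f, g, hf, e⟩ := a.property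
    exact ⟨⟨Over.mk f, hf⟩, g, e.symm⟩
  choose B g hgB using rep
  have kl : ∀ a, ∃ (z : 𝒮.obj) (l : z ⟶ (H.obj (B a)).snd) (e : 𝒮.p.obj z = a.obj.left),
      hb H l = eqToHom e ≫ g a := by
    intro a
    obtain ⟨z, l, e, he⟩ := exists_lift' h (x := (H.obj (B a)).snd)
      (g a ≫ u.map (eqToHom (pobj H (B a)).symm) ≫ (H.obj (B a)).iso.hom)
    exact ⟨z, l, e, by simp [hb, he, eqToHom_map]⟩
  choose Z l eZ hl using kl
  have km : ∀ {a b : (_root_.Stk.sieveCat R').obj} (m : a ⟶ b), ∃ χ : Z a ⟶ Z b,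
      𝒮.p.map χ = eqToHom (eZ a) ≫ m.hom.left ≫ eqToHom (eZ b).symm ∧ Linked H (l a) (χ ≫ l b) := by
    intro a b m
    have hm : m.hom.left ≫ b.obj.hom = a.obj.hom := Over.w m.hom
    obtain ⟨t', h1, h2⟩ := exists_linked h H (b := B b) (l a) (eqToHom (eZ a) ≫ m.hom.left ≫ g b) (by
      rw [hl, Category.assoc, hgB, Category.assoc, Category.assoc, hgB, hm])
    have e3 : (eqToHom (eZ a) ≫ m.hom.left ≫ eqToHom (eZ b).symm) ≫ 𝒮.p.map (l b) = 𝒮.p.map t' := by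
      rw [← cancel_mono ((H.obj (B b)).iso.inv ≫ u.map (eqToHom (pobj H (B b))))]
      refine Eq.trans ?_ h2.symm
      rw [Category.assoc]
      show _ ≫ hb H (l b) = _
      rw [hl]; simp
    obtain ⟨χ, hχ, hχ'⟩ := sc_exists (h.isStronglyCartesian (l b)) t' _ e3
    exact ⟨χ, hχ, hχ'.symm ▸ h1⟩
  choose χ hχ hχ' using @km
  have kext : ∀ {a b : (_root_.Stk.sieveCat R').obj} (s s' : Z a ⟶ Z b), 𝒮.p.map s = 𝒮.p.map s' →
      Linked H (l a) (s ≫ l b) → Linked H (l a) (s' ≫ l b) → s = s' := fun s s' e h1 h2 =>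
    sc_ext (h.isStronglyCartesian (l _)) e (linked_unique h H h1 h2 (by rw [hb_comp, hb_comp, e]))
  have hrefl : ∀ {z : 𝒮.obj} {a : (_root_.Stk.sieveCat R).obj} (t : z ⟶ (H.obj a).snd), Linked H t t :=
    fun {z a} t => ⟨a, 𝟙 a, 𝟙 a, t, by rw [H.toFunctor.map_id, CategoricalPullback.id_snd, Category.comp_id],
      by rw [H.toFunctor.map_id, CategoricalPullback.id_snd, Category.comp_id]⟩
  let K : (_root_.Stk.sieveCat R').obj ⥤ 𝒮.obj :=
    { obj := Z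
      map := fun m => χ m
      map_id := fun a => kext _ _ (by
          rw [hχ, 𝒮.p.map_id]
          exact ((congrArg (eqToHom (eZ a) ≫ ·) (Category.id_comp _)).trans (eqToHom_trans _ _)).trans
            (eqToHom_refl _ _))
        (hχ' _) (by rw [Category.id_comp]; exact hrefl _)
      map_comp := fun {a b d} m n => kext _ _ (by
          rw [Functor.map_comp, hχ, hχ, hχ]; simp [show (m ≫ n).hom.left = m.hom.left ≫ n.hom.left from rfl])
        (hχ' _) (linked_trans h H (hχ' m) (by rw [Category.assoc]; exact (hχ' n).comp H (χ m))) }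
  obtain ⟨c⟩ := hg { toFunctor := K, w := CategoryTheory.Functor.ext eZ fun a b m => hχ m }
  have hc : 𝒮.p.obj c.pt = u.obj U := c.over
  let ar : (_root_.Stk.sieveCat R).obj → (_root_.Stk.sieveCat R').obj := fun a =>
    ⟨Over.mk (u.map a.obj.hom), Sieve.image_mem_functorPushforward u R a.property⟩
  have kk0 : ∀ a, ∃ κ : (H.obj a).snd ⟶ Z (ar a),
      𝒮.p.map κ = (H.obj a).iso.inv ≫ u.map (eqToHom (pobj H a)) ≫ eqToHom (eZ (ar a)).symm ∧
      Linked H (𝟙 (H.obj a).snd) (κ ≫ l (ar a)) := by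
    intro a
    let w : 𝒮.p.obj (H.obj a).snd ⟶ u.obj a.obj.left := (H.obj a).iso.inv ≫ u.map (eqToHom (pobj H a))
    obtain ⟨t', h1, h2⟩ := exists_linked h H (b := B (ar a)) (𝟙 (H.obj a).snd) (w ≫ g (ar a)) (by
      rw [Category.assoc, hgB]; simp [hb, w, ar])
    have e3 : (w ≫ eqToHom (eZ (ar a)).symm) ≫ 𝒮.p.map (l (ar a)) = 𝒮.p.map t' := by
      rw [← cancel_mono ((H.obj (B (ar a))).iso.inv ≫ u.map (eqToHom (pobj H (B (ar a)))))]
      refine Eq.trans ?_ h2.symm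
      rw [Category.assoc]
      show _ ≫ hb H (l (ar a)) = _
      rw [hl]; simp
    obtain ⟨κ, hκ, hκ'⟩ := sc_exists (h.isStronglyCartesian (l (ar a))) t' _ e3
    exact ⟨κ, hκ.trans (Category.assoc _ _ _), hκ'.symm ▸ h1⟩
  choose κ hκ hκ' using kk0
  let X : (pullCat u 𝒮).obj := ⟨U, c.pt, eqToIso hc.symm⟩
  have cp : ∀ a, 𝒮.p.map (c.map a) = eqToHom (eZ a) ≫ a.obj.hom ≫ eqToHom hc.symm := c.proj
  refine ⟨⟨X, rfl, fun a => ⟨eqToHom (pobj H a) ≫ a.obj.hom, κ a ≫ c.map (ar a), ?_⟩, fun a => ?_,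
    fun {a b} m => CategoricalPullback.hom_ext ?_ ?_⟩⟩
  · rw [Functor.map_comp, 𝒮.p.map_comp, hκ, cp]
    simp [X, ar, eqToHom_map]
  · show eqToHom (pobj H a) ≫ a.obj.hom = _
    simp
  · show (H.map m).fst ≫ eqToHom (pobj H b) ≫ b.obj.hom = eqToHom (pobj H a) ≫ a.obj.hom
    rw [show (H.map m).fst = _ from pmap H m, ← sieve_mem_map H m]
    simp
  · let n : ar a ⟶ ar b := ObjectProperty.homMk (Over.homMk (u.map m.hom.left) (by
      show u.map m.hom.left ≫ u.map b.obj.hom = u.map a.obj.hom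
      rw [← Functor.map_comp, Over.w m.hom]))
    have e : (H.map m).snd ≫ κ b = κ a ≫ χ n := by
      have hH : (H.map m).fst = eqToHom (pobj H a) ≫ m.hom.left ≫ eqToHom (pobj H b).symm := pmap H m
      have p1 : 𝒮.p.map ((H.map m).snd ≫ κ b) = 𝒮.p.map (κ a ≫ χ n) := by
        rw [Functor.map_comp, Functor.map_comp, hκ, hκ, hχ, pull_map_snd, hH,
          show n.hom.left = u.map m.hom.left from rfl]
        simp [eqToHom_map]
      have l1 : Linked H (𝟙 (H.obj a).snd) (((H.map m).snd ≫ κ b) ≫ l (ar b)) := by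
        have q1 := Linked.map H (𝟙 (H.obj a).snd) m
        rw [Category.id_comp] at q1
        have q2 := (hκ' b).comp H (H.map m).snd
        rw [Category.comp_id, ← Category.assoc] at q2
        exact linked_trans h H q1 q2
      have l2 : Linked H (𝟙 (H.obj a).snd) ((κ a ≫ χ n) ≫ l (ar b)) := by
        refine linked_trans h H (hκ' a) ?_
        rw [Category.assoc]
        exact (hχ' n).comp H (κ a)
      exact sc_ext (h.isStronglyCartesian (l (ar b))) p1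
        (linked_unique h H l1 l2 (by rw [hb_comp, hb_comp, p1]))
    show (H.map m).snd ≫ κ b ≫ c.map (ar b) = κ a ≫ c.map (ar a)
    rw [← Category.assoc, e, Category.assoc]
    exact congrArg (κ a ≫ ·) (c.natural n)

end

variable {J : GrothendieckTopology C} {K : GrothendieckTopology D}

theorem stack_pull [HasPullbacks C] [PreservesLimitsOfShape WalkingCospan u] (hu : CoverPreserving J K u)
    (h𝒮 : _root_.Stk.IsStack K 𝒮) : _root_.Stk.IsStack J (pullCat u 𝒮) := by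
  rw [stack_iff] at h𝒮 ⊢
  exact ⟨pull_fibGrpd h𝒮.1, fun U R hR =>
    ⟨pull_homGlue h𝒮.1 fun g => (h𝒮.2 _ (K.pullback_stable g (hu.cover_preserve hR))).1,
      fun H => pull_objGlue h𝒮.1 H (h𝒮.2 _ (hu.cover_preserve hR)).2⟩⟩

end Groth.Agent.H7.Stk.Glue
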