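import Groth.Prelude.Def_W4stkalgstUpp
import Groth.Agent.Lead.FibCat.Basic
import Mathlib.CategoryTheory.Localization.CalculusOfFractions
import Mathlib.CategoryTheory.Limits.Preserves.Shapes.Pullbacks
import Mathlib.CategoryTheory.Limits.Preserves.Shapes.Equalizers
import Mathlib.CategoryTheory.Limits.Shapes.FiniteLimits

/-! The category `u_p 𝒮`. -/

set_option autoImplicit false
set_option backward.isDefEq.respectTransparency false
set_option backward.isDefEq.respectTransparency.types false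

universe v₃ u₃ v₂ u₂ v u

open CategoryTheory CategoryTheory.Functor CategoryTheory.Limits
open Groth.Agent.LeadFibCat

namespace Groth.Agent.H7.Stk.Up

variable {C : Type u} [Category.{v} C] {D : Type u₂} [Category.{v₂} D] {u : C ⥤ D}
  {𝒮 : BasedCategory.{v₃, u₃} C}

theorem sc_comp {a b c : 𝒮.obj} {f : a ⟶ b} {g : b ⟶ c} (hf : 𝒮.p.IsStronglyCartesian (𝒮.p.map f) f)
    (hg : 𝒮.p.IsStronglyCartesian (𝒮.p.map g) g) : 𝒮.p.IsStronglyCartesian (𝒮.p.map (f ≫ g)) (f ≫ g) := by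
  haveI := hf
  haveI := hg
  rw [Functor.map_comp]
  infer_instance

theorem sc_id (a : 𝒮.obj) : 𝒮.p.IsStronglyCartesian (𝒮.p.map (𝟙 a)) (𝟙 a) :=
  sc_of_vert_iso (Iso.refl a)

theorem uppR_multiplicative : (_root_.Stk.uppR u 𝒮).IsMultiplicative where
  id_mem a := ⟨sc_id a.x, inferInstanceAs (IsIso (𝟙 a.V))⟩
  comp_mem f g hf hg := ⟨sc_comp hf.1 hg.1, by
    haveI := hf.2
    haveI := hg.2
    rw [_root_.Stk.UppObj.comp_bot]
    infer_instance⟩

theorem calculus [𝒮.p.IsFibered] [HasPullbacks C] [HasEqualizers C]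
    [PreservesLimitsOfShape WalkingCospan u] [PreservesLimitsOfShape WalkingParallelPair u] :
    (_root_.Stk.uppR u 𝒮).HasRightCalculusOfFractions := by
  haveI : (_root_.Stk.uppR u 𝒮).IsMultiplicative := uppR_multiplicative
  refine ⟨fun {a a'} φ => ?_, fun {a b c} f g r hr e => ?_⟩
  · obtain ⟨f, r, hr⟩ := φ
    haveI := hr.2
    obtain ⟨x'', l, e, hl, hls⟩ := exists_sc (p := 𝒮.p) inferInstance (x := a.x)
      (pullback.fst (𝒮.p.map f.top) (𝒮.p.map r.top))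
    have hw : a.φ ≫ u.map (𝒮.p.map f.top) = (f.bot ≫ inv r.bot ≫ a'.φ) ≫ u.map (𝒮.p.map r.top) := by
      simp only [Category.assoc, r.w, IsIso.inv_hom_id_assoc, f.w]
    let pb := isLimitPullbackConeMapOfIsLimit u pullback.condition
      (pullbackIsPullback (𝒮.p.map f.top) (𝒮.p.map r.top))
    let m := PullbackCone.IsLimit.lift pb _ _ hw
    have hm1 : m ≫ u.map (pullback.fst (𝒮.p.map f.top) (𝒮.p.map r.top)) = a.φ :=
      PullbackCone.IsLimit.lift_fst pb _ _ hw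
    have hm2 : m ≫ u.map (pullback.snd (𝒮.p.map f.top) (𝒮.p.map r.top)) = f.bot ≫ inv r.bot ≫ a'.φ :=
      PullbackCone.IsLimit.lift_snd pb _ _ hw
    obtain ⟨t, ht, ht'⟩ := sc_exists hr.1 (l ≫ f.top) (eqToHom e ≫ pullback.snd _ _) (by
      rw [Functor.map_comp, hl, Category.assoc, Category.assoc, pullback.condition])
    let A : _root_.Stk.UppObj u 𝒮 := ⟨x'', a.V, m ≫ u.map (eqToHom e.symm)⟩
    let s : A ⟶ a := ⟨l, 𝟙 a.V, by simp [A, hl, eqToHom_map, hm1]⟩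
    let g : A ⟶ a' := ⟨t, f.bot ≫ inv r.bot, by simp [A, ht, eqToHom_map, hm2]⟩
    exact ⟨⟨s, ⟨hls, inferInstanceAs (IsIso (𝟙 a.V))⟩, g⟩,
      _root_.Stk.UppObj.hom_ext ht'.symm (by simp [s, g]; exact Category.id_comp _)⟩
  · haveI := hr.2
    have et : f.top ≫ r.top = g.top ≫ r.top := congrArg (fun k => k.top) e
    have eb : f.bot = g.bot := (cancel_mono r.bot).1 (congrArg (fun k => k.bot) e)
    obtain ⟨x', l, e', hl, hls⟩ := exists_sc (p := 𝒮.p) inferInstance (x := a.x)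
      (equalizer.ι (𝒮.p.map f.top) (𝒮.p.map g.top))
    have hw : a.φ ≫ u.map (𝒮.p.map f.top) = a.φ ≫ u.map (𝒮.p.map g.top) := by rw [f.w, g.w, eb]
    let eq := isLimitForkMapOfIsLimit u (equalizer.condition (𝒮.p.map f.top) (𝒮.p.map g.top))
      (equalizerIsEqualizer (𝒮.p.map f.top) (𝒮.p.map g.top))
    let m := Fork.IsLimit.lift eq a.φ hw
    have hm : m ≫ u.map (equalizer.ι (𝒮.p.map f.top) (𝒮.p.map g.top)) = a.φ := Fork.IsLimit.lift_ι' eq a.φ hw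
    let A : _root_.Stk.UppObj u 𝒮 := ⟨x', a.V, m ≫ u.map (eqToHom e'.symm)⟩
    let s : A ⟶ a := ⟨l, 𝟙 a.V, by simp [A, hl, eqToHom_map, hm]⟩
    refine ⟨A, s, ⟨hls, inferInstanceAs (IsIso (𝟙 a.V))⟩, _root_.Stk.UppObj.hom_ext ?_ (by simp [s, eb])⟩
    refine sc_ext hr.1 ?_ ?_
    · show 𝒮.p.map (l ≫ f.top) = 𝒮.p.map (l ≫ g.top)
      rw [Functor.map_comp, Functor.map_comp, hl, Category.assoc, Category.assoc, equalizer.condition]
    · show (l ≫ f.top) ≫ r.top = (l ≫ g.top) ≫ r.top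
      rw [Category.assoc, Category.assoc, et]

variable (u 𝒮)

/-- the localisation functor -/
abbrev Q : _root_.Stk.UppObj u 𝒮 ⥤ (_root_.Stk.up u 𝒮).obj := (_root_.Stk.uppR u 𝒮).Q

variable {u 𝒮}

instance : (Q u 𝒮).IsLocalization (_root_.Stk.uppR u 𝒮) :=
  inferInstanceAs ((_root_.Stk.uppR u 𝒮).Q.IsLocalization (_root_.Stk.uppR u 𝒮))

theorem p_obj (a : _root_.Stk.UppObj u 𝒮) : (_root_.Stk.up u 𝒮).p.obj ((Q u 𝒮).obj a) = a.V := rfl

theorem p_map {a b : _root_.Stk.UppObj u 𝒮} (f : a ⟶ b) :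
    (_root_.Stk.up u 𝒮).p.map ((Q u 𝒮).map f) = f.bot := by
  have := Functor.congr_hom
    (Localization.Construction.fac (_root_.Stk.UppObj.forget u 𝒮) (_root_.Stk.uppR_isInvertedBy u 𝒮)) f
  simp only [Functor.comp_map, eqToHom_refl, Category.id_comp, Category.comp_id] at this
  exact this

theorem exists_obj (X : (_root_.Stk.up u 𝒮).obj) : ∃ a, (Q u 𝒮).obj a = X :=
  ⟨(Localization.Construction.objEquiv _).symm X, (Localization.Construction.objEquiv _).apply_symm_apply X⟩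

theorem inverts {a b : _root_.Stk.UppObj u 𝒮} {s : a ⟶ b} (hs : _root_.Stk.uppR u 𝒮 s) : IsIso ((Q u 𝒮).map s) :=
  (_root_.Stk.uppR u 𝒮).Q_inverts s hs

/-- the canonical lift of a morphism of `D` -/
def cl (a : _root_.Stk.UppObj u 𝒮) {V : D} (f : V ⟶ a.V) : _root_.Stk.UppObj u 𝒮 := ⟨a.x, V, f ≫ a.φ⟩

/-- the canonical lift of a morphism of `D` -/
def clMap (a : _root_.Stk.UppObj u 𝒮) {V : D} (f : V ⟶ a.V) : cl a f ⟶ a :=
  ⟨𝟙 a.x, f, by simp [cl]⟩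

section

variable [(_root_.Stk.uppR u 𝒮).HasRightCalculusOfFractions]

theorem fraction {a b : _root_.Stk.UppObj u 𝒮} (m : (Q u 𝒮).obj a ⟶ (Q u 𝒮).obj b) :
    ∃ (a' : _root_.Stk.UppObj u 𝒮) (s : a' ⟶ a) (h : a' ⟶ b), _root_.Stk.uppR u 𝒮 s ∧
      (Q u 𝒮).map s ≫ m = (Q u 𝒮).map h := by
  obtain ⟨φ, hφ⟩ := Localization.exists_rightFraction (Q u 𝒮) (_root_.Stk.uppR u 𝒮) m
  exact ⟨φ.X', φ.s, φ.f, φ.hs, by rw [hφ]; exact φ.map_s_comp_map _ _⟩

theorem sc_clMap (a : _root_.Stk.UppObj u 𝒮) {V : D} (f : V ⟶ a.V) :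
    (_root_.Stk.up u 𝒮).p.IsStronglyCartesian ((_root_.Stk.up u 𝒮).p.map ((Q u 𝒮).map (clMap a f)))
      ((Q u 𝒮).map (clMap a f)) := by
  refine sc_mk _ (fun {Z} ψ g hg => ?_) (fun {Z} χ χ' h₁ h₂ => ?_)
  · obtain ⟨c, rfl⟩ := exists_obj Z
    obtain ⟨c', s, h, hs, e⟩ := fraction ψ
    haveI := inverts hs
    rw [p_map] at hg
    have hbot : h.bot = s.bot ≫ g ≫ f := by
      rw [← p_map h, ← e, Functor.map_comp, p_map, ← hg]
      rfl
    let h' : c' ⟶ cl a f := ⟨h.top, s.bot ≫ g, by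
      show c'.φ ≫ u.map (𝒮.p.map h.top) = (s.bot ≫ g) ≫ f ≫ a.φ
      rw [h.w, hbot]
      simp⟩
    have hh : h' ≫ clMap a f = h :=
      _root_.Stk.UppObj.hom_ext (Category.comp_id _) ((Category.assoc _ _ _).trans hbot.symm)
    refine ⟨inv ((Q u 𝒮).map s) ≫ (Q u 𝒮).map h', ?_, ?_⟩
    · haveI : IsIso ((_root_.Stk.up u 𝒮).p.map ((Q u 𝒮).map s)) := Functor.map_isIso _ _
      rw [← cancel_epi ((_root_.Stk.up u 𝒮).p.map ((Q u 𝒮).map s)), ← Functor.map_comp,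
        IsIso.hom_inv_id_assoc, p_map, p_map]
    · rw [Category.assoc, ← Functor.map_comp, hh, ← e, IsIso.inv_hom_id_assoc]
  · obtain ⟨c, rfl⟩ := exists_obj Z
    obtain ⟨c₁, s₁, k₁, hs₁, e₁⟩ := fraction χ
    obtain ⟨c₂, s₂, k₂, hs₂, e₂⟩ := fraction ((Q u 𝒮).map s₁ ≫ χ')
    haveI := inverts hs₁
    haveI := inverts hs₂
    rw [← cancel_epi ((Q u 𝒮).map s₁), ← cancel_epi ((Q u 𝒮).map s₂), e₁, ← Functor.map_comp, e₂]
    have hb : (s₂ ≫ k₁).bot = k₂.bot := by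
      rw [← p_map (s₂ ≫ k₁), ← p_map k₂, ← e₂, Functor.map_comp (Q u 𝒮), ← e₁,
        (_root_.Stk.up u 𝒮).p.map_comp, (_root_.Stk.up u 𝒮).p.map_comp, (_root_.Stk.up u 𝒮).p.map_comp,
        (_root_.Stk.up u 𝒮).p.map_comp, h₁]
    have hq : (Q u 𝒮).map ((s₂ ≫ k₁) ≫ clMap a f) = (Q u 𝒮).map (k₂ ≫ clMap a f) := by
      rw [Functor.map_comp, Functor.map_comp, Functor.map_comp, ← e₂, ← e₁]
      simp only [Category.assoc, h₂]
    obtain ⟨c₃, t, ht, et⟩ := (MorphismProperty.map_eq_iff_precomp (Q u 𝒮) (_root_.Stk.uppR u 𝒮) _ _).1 hq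
    haveI := inverts ht
    rw [← cancel_epi ((Q u 𝒮).map t), ← Functor.map_comp, ← Functor.map_comp]
    congr 1
    have et' := congrArg (fun k => k.top) et
    refine _root_.Stk.UppObj.hom_ext ?_ ?_
    · show t.top ≫ (s₂ ≫ k₁).top = t.top ≫ k₂.top
      have et'' : t.top ≫ (s₂ ≫ k₁).top ≫ 𝟙 a.x = t.top ≫ k₂.top ≫ 𝟙 a.x := et'
      erw [Category.comp_id, Category.comp_id] at et''
      exact et''
    · show t.bot ≫ (s₂ ≫ k₁).bot = t.bot ≫ k₂.bot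
      rw [hb]

theorem up_isFibered : (_root_.Stk.up u 𝒮).p.IsFibered := by
  refine isFibered_mk fun {X V} f => ?_
  obtain ⟨a, rfl⟩ := exists_obj X
  exact ⟨_, (Q u 𝒮).map (clMap a f), rfl, by rw [p_map]; exact (Category.id_comp _).symm, sc_clMap a f⟩

theorem up_isFibGrpd (h𝒮 : FibCat.IsFibGrpd 𝒮.p) : FibCat.IsFibGrpd (_root_.Stk.up u 𝒮).p := by
  refine isFibGrpd_mk (fun {X V} f => ?_) (fun {Y X} m => ?_)
  · obtain ⟨a, rfl⟩ := exists_obj X
    exact ⟨_, (Q u 𝒮).map (clMap a f), rfl, by rw [p_map]; exact (Category.id_comp _).symm⟩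
  · obtain ⟨a, rfl⟩ := exists_obj X
    obtain ⟨c, rfl⟩ := exists_obj Y
    obtain ⟨c', s, h, hs, e⟩ := fraction m
    haveI := inverts hs
    let h' : c' ⟶ cl a h.bot := ⟨h.top, 𝟙 c'.V, by
      show c'.φ ≫ u.map (𝒮.p.map h.top) = 𝟙 c'.V ≫ h.bot ≫ a.φ
      rw [h.w, Category.id_comp]⟩
    have hh' : _root_.Stk.uppR u 𝒮 h' := ⟨h𝒮.isStronglyCartesian _, inferInstanceAs (IsIso (𝟙 c'.V))⟩
    have hh : h' ≫ clMap a h.bot = h :=
      _root_.Stk.UppObj.hom_ext (Category.comp_id _) (Category.id_comp _)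
    haveI := inverts hh'
    let i := (asIso ((Q u 𝒮).map s)).symm ≪≫ asIso ((Q u 𝒮).map h')
    have hm : m = i.hom ≫ (Q u 𝒮).map (clMap a h.bot) := by
      simp only [i, Iso.trans_hom, Iso.symm_hom, asIso_inv, asIso_hom, Category.assoc]
      rw [← Functor.map_comp, hh, ← e, IsIso.inv_hom_id_assoc]
    subst hm
    haveI := sc_of_vert_iso (p := (_root_.Stk.up u 𝒮).p) i
    haveI := sc_clMap a h.bot
    rw [Functor.map_comp]
    infer_instance

end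

end Groth.Agent.H7.Stk.Up
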